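import Cfsg.Prelude.Def_LocalEven
import Mathlib

/-!
An involution acting trivially modulo a normal `p`-subgroup of odd order: the inverted and the fixed part.
-/

set_option autoImplicit false
set_option linter.style.haveILetI false

open scoped commutatorElement

namespace Cfsg.Agent.H35.PushExceptional

open Subgroup

variable {G : Type*} [Group G]

/-- An involution `t` with all commutators in the normal `p`-subgroup `Q`, `p` odd. -/
structure Inv (p : ℕ) (Q : Subgroup G) (t : G) : Prop where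
  normal : Q.Normal
  isP : IsPGroup p Q
  prime : p.Prime
  odd : p ≠ 2
  sq : t * t = 1
  comm : ∀ g : G, ⁅g, t⁆ ∈ Q

/-- The subgroup generated by the elements of `Q` inverted by `t`. -/
def invPart (Q : Subgroup G) (t : G) : Subgroup G :=
  Subgroup.closure {v | v ∈ Q ∧ t * v * t = v⁻¹}

/-- The elements of `Q` fixed by `t`. -/
def fixPart (Q : Subgroup G) (t : G) : Subgroup G := Q ⊓ centralizer ({t} : Set G)

variable {p : ℕ} {Q : Subgroup G} {t : G}

theorem Inv.inv_eq (h : Inv p Q t) : t⁻¹ = t := inv_eq_of_mul_eq_one_left h.sq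

theorem Inv.fixed_iff (h : Inv p Q t) (g : G) : g ∈ centralizer ({t} : Set G) ↔ t * g * t = g := by
  rw [mem_centralizer_singleton_iff]
  constructor
  · intro e
    rw [← e, mul_assoc, h.sq, mul_one]
  · intro e
    conv_lhs => rw [← e, mul_assoc, h.sq, mul_one]

theorem Inv.conj_mul (h : Inv p Q t) (a b : G) : t * (a * b) * t = (t * a * t) * (t * b * t) := by
  calc t * (a * b) * t = t * a * (t * t) * b * t := by rw [h.sq]; group
    _ = _ := by group

theorem Inv.conj_inv (h : Inv p Q t) (a : G) : t * a⁻¹ * t = (t * a * t)⁻¹ := by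
  conv_rhs => rw [mul_inv_rev, mul_inv_rev, h.inv_eq, ← mul_assoc]

theorem Inv.conj_pow (h : Inv p Q t) (a : G) (k : ℕ) : t * a ^ k * t = (t * a * t) ^ k := by
  induction k with
  | zero => rw [pow_zero, pow_zero, mul_one, h.sq]
  | succ k ih => rw [pow_succ, pow_succ, h.conj_mul, ih]

theorem Inv.commutator_eq (h : Inv p Q t) (g : G) : ⁅g, t⁆ = g * t * g⁻¹ * t := by
  rw [commutatorElement_def, h.inv_eq]

/-- Square roots in `Q`. -/
theorem Inv.exists_sq (h : Inv p Q t) {v : G} (hv : v ∈ Q) : ∃ k : ℕ, v ^ k * v ^ k = v := by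
  haveI : Fact p.Prime := ⟨h.prime⟩
  obtain ⟨j, hj⟩ := h.isP ⟨v, hv⟩
  have hj' : v ^ p ^ j = 1 := congrArg Subtype.val hj
  obtain ⟨m, hm⟩ : Odd (p ^ j) := (h.prime.eq_two_or_odd'.resolve_left h.odd).pow
  refine ⟨m + 1, ?_⟩
  rw [← pow_add, show m + 1 + (m + 1) = p ^ j + 1 by omega, pow_succ, hj', one_mul]

theorem Inv.eq_one_of_sq (h : Inv p Q t) {v : G} (hv : v ∈ Q) (h2 : v * v = 1) : v = 1 := by
  obtain ⟨k, hk⟩ := h.exists_sq hv
  rw [← hk, ← (Commute.refl v).mul_pow, h2, one_pow]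

theorem Inv.mem_of_sq (h : Inv p Q t) {H : Subgroup G} {v : G} (hv : v ∈ Q) (h2 : v * v ∈ H) : v ∈ H := by
  obtain ⟨k, hk⟩ := h.exists_sq hv
  rw [← hk, ← (Commute.refl v).mul_pow]
  exact pow_mem h2 k

/-- Fixed and inverted is trivial. -/
theorem Inv.eq_one (h : Inv p Q t) {v : G} (hv : v ∈ Q) (h1 : t * v * t = v) (h2 : t * v * t = v⁻¹) : v = 1 :=
  h.eq_one_of_sq hv (by nth_rw 1 [← h1]; rw [h2, inv_mul_cancel])

/-- An inverted element is a commutator with `t` of one of its own powers. -/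
theorem Inv.inverted_comm (h : Inv p Q t) {v : G} (hv : v ∈ Q) (h1 : t * v * t = v⁻¹) :
    ∃ k : ℕ, v = ⁅v ^ k, t⁆ := by
  obtain ⟨k, hk⟩ := h.exists_sq hv
  refine ⟨k, ?_⟩
  have e : t * (v ^ k)⁻¹ * t = v ^ k := by rw [h.conj_inv, h.conj_pow, h1, inv_pow, inv_inv]
  rw [h.commutator_eq, show v ^ k * t * (v ^ k)⁻¹ * t = v ^ k * (t * (v ^ k)⁻¹ * t) by group, e, hk]

/-- Every element is a fixed element times an inverted element of `Q`, inside any invariant subgroup. -/
theorem Inv.decomp (h : Inv p Q t) (g : G) :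
    ∃ d v, t * d * t = d ∧ v ∈ Q ∧ t * v * t = v⁻¹ ∧ g = d * v ∧
      ∀ H : Subgroup G, g ∈ H → t * g * t ∈ H → d ∈ H ∧ v ∈ H := by
  set w := g⁻¹ * (t * g * t) with hw
  have hwQ : w ∈ Q := by
    have h1 := h.comm g⁻¹
    rw [h.commutator_eq, inv_inv] at h1
    rwa [hw, show g⁻¹ * (t * g * t) = g⁻¹ * t * g * t by group]
  have htw : t * w * t = w⁻¹ := by
    rw [hw, h.conj_mul, h.conj_inv, show t * (t * g * t) * t = (t * t) * g * (t * t) by group, h.sq]
    group
  obtain ⟨k, hk⟩ := h.exists_sq (Q.inv_mem hwQ)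
  set v := (w⁻¹) ^ k with hv
  have htv : t * v * t = v⁻¹ := by
    rw [hv, h.conj_pow, h.conj_inv, htw, inv_inv, inv_pow, inv_inv]
  refine ⟨g * v⁻¹, v, ?_, pow_mem (Q.inv_mem hwQ) k, htv, by group, fun H hg hg' => ?_⟩
  · rw [h.conj_mul, h.conj_inv, htv, inv_inv, show t * g * t = g * w by rw [hw]; group]
    have e : w = v⁻¹ * v⁻¹ := by rw [← inv_inv w, ← hk, mul_inv_rev]
    rw [e]; group
  · have hwH : w ∈ H := H.mul_mem (H.inv_mem hg) hg'
    have hvH : v ∈ H := pow_mem (H.inv_mem hwH) k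
    exact ⟨H.mul_mem hg (H.inv_mem hvH), hvH⟩

theorem Inv.invPart_le (_h : Inv p Q t) : invPart Q t ≤ Q :=
  (Subgroup.closure_le _).2 fun _ hv => hv.1

theorem inverted_mem {v : G} (hv : v ∈ Q) (h1 : t * v * t = v⁻¹) : v ∈ invPart Q t :=
  Subgroup.subset_closure ⟨hv, h1⟩

theorem Inv.conj_fixed (h : Inv p Q t) {d v : G} (hd : t * d * t = d) (hv : t * v * t = v⁻¹) :
    t * (d * v * d⁻¹) * t = (d * v * d⁻¹)⁻¹ := by
  rw [h.conj_mul, h.conj_mul, h.conj_inv, hd, hv]; group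

theorem Inv.invPart_normal (h : Inv p Q t) : (invPart Q t).Normal := by
  refine ⟨fun x hx g => ?_⟩
  obtain ⟨d, v, hd, hv, hvi, rfl, -⟩ := h.decomp g
  have hle : invPart Q t ≤ (invPart Q t).comap (MulAut.conj d).toMonoidHom :=
    (Subgroup.closure_le _).2 fun y hy => inverted_mem (h.normal.conj_mem _ hy.1 d) (h.conj_fixed hd hy.2)
  have hvR := inverted_mem hv hvi
  have h1 : v * x * v⁻¹ ∈ invPart Q t := mul_mem (mul_mem hvR hx) (inv_mem hvR)
  have h2 : d * (v * x * v⁻¹) * d⁻¹ ∈ invPart Q t := hle h1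
  rwa [show d * v * x * (d * v)⁻¹ = d * (v * x * v⁻¹) * d⁻¹ by group]

/-- `Q` is the product of its fixed and inverted parts. -/
theorem Inv.decomp_Q (h : Inv p Q t) {u : G} (hu : u ∈ Q) :
    ∃ d ∈ fixPart Q t, ∃ v ∈ invPart Q t, u = d * v := by
  obtain ⟨d, v, hd, hv, hvi, e, hH⟩ := h.decomp u
  have hu' : t * u * t ∈ Q := by
    have := h.normal.conj_mem _ hu t
    rwa [h.inv_eq] at this
  exact ⟨d, ⟨(hH Q hu hu').1, (h.fixed_iff d).2 hd⟩, v, inverted_mem hv hvi, e⟩

/-- The inverted part lies in every normal subgroup containing `t`. -/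
theorem Inv.invPart_le_of_mem (h : Inv p Q t) {E : Subgroup G} (hE : E.Normal) (ht : t ∈ E) :
    invPart Q t ≤ E :=
  (Subgroup.closure_le _).2 fun v hv => by
    obtain ⟨k, hk⟩ := h.inverted_comm hv.1 hv.2
    rw [hk, commutatorElement_def]
    exact E.mul_mem (hE.conj_mem _ ht _) (E.inv_mem ht)

/-- The inverted part is its own commutator with `t`. -/
theorem Inv.invPart_le_comm (h : Inv p Q t) {E : Subgroup G} (ht : t ∈ E) :
    invPart Q t ≤ ⁅invPart Q t, E⁆ :=
  (Subgroup.closure_le _).2 fun v hv => by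
    obtain ⟨k, hk⟩ := h.inverted_comm hv.1 hv.2
    rw [hk]
    exact commutator_mem_commutator (pow_mem (inverted_mem hv.1 hv.2) k) ht

/-- Fixed elements of the inverted part lie in its derived group. -/
theorem Inv.fixed_mem_derived (h : Inv p Q t) {x : G} (hx : x ∈ invPart Q t) (hx' : t * x * t = x) :
    x ∈ ⁅invPart Q t, invPart Q t⁆ := by
  set R := invPart Q t with hR
  haveI := h.invPart_normal
  set π := QuotientGroup.mk' ⁅R, R⁆ with hπ
  have hc : ∀ a ∈ R, ∀ b ∈ R, Commute (π a) (π b) := fun a ha b hb => by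
    rw [← commutatorElement_eq_one_iff_commute, ← map_commutatorElement]
    exact (QuotientGroup.eq_one_iff _).2 (commutator_mem_commutator ha hb)
  let T : Subgroup G :=
    { carrier := {a | a ∈ R ∧ π (t * a * t) = (π a)⁻¹}
      one_mem' := ⟨one_mem _, by rw [mul_one, h.sq, map_one, inv_one]⟩
      mul_mem' := fun {a b} ha hb => ⟨mul_mem ha.1 hb.1, by
        rw [h.conj_mul, map_mul, ha.2, hb.2, map_mul, (hc a ha.1 b hb.1).eq, mul_inv_rev]⟩
      inv_mem' := fun {a} ha => ⟨inv_mem ha.1, by rw [h.conj_inv, map_inv, ha.2, map_inv]⟩ }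
  have hle : R ≤ T := by
    refine (Subgroup.closure_le _).2 fun v hv => ⟨inverted_mem hv.1 hv.2, ?_⟩
    rw [hv.2, map_inv]
  have h1 := (hle hx).2
  rw [hx'] at h1
  refine h.mem_of_sq (h.invPart_le hx) ((QuotientGroup.eq_one_iff _).1 ?_)
  show π (x * x) = 1
  rw [map_mul]; nth_rw 1 [h1]; rw [inv_mul_cancel]

end Cfsg.Agent.H35.PushExceptional
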