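import Cfsg.Agent.H35.PushExceptional.Residual
import Cfsg.Agent.H35.PushExceptional.Involution
import Cfsg.Agent.H72.Push.TwoMain
import Mathlib

/-!
Rank one pushing up with commuting neighbours: what the central involution of `SL₂` does to the layers.
-/

set_option autoImplicit false
set_option linter.style.haveILetI false
set_option linter.unusedSectionVars false

open scoped commutatorElement

namespace Cfsg.Agent.H35.PushExceptional

open Cfsg.Agent Subgroup H72.RankOne H72.Push H75.SL2Natural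

variable {G : Type*} [Group G] [Finite G] {p : ℕ} [Fact p.Prime]

/-- All the facts in force: the layers, both natural sections and a lift of the central involution. -/
structure Data (S : Sylow p G) (K : Subgroup G) (F : Type) [Field F] [Fintype F] (n : ℕ)
    (Z U Yh U1 U2 : Subgroup G) (c : G) (ρ : G →* Matrix.SpecialLinearGroup (Fin 2) F) (θ : G → Fin 2 → F)
    (ρ' : G →* Matrix.SpecialLinearGroup (Fin 2) F) (θ' : G → Fin 2 → F) (t : G) : Prop where
  setup : Setup S K F n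
  hp3 : p = 3
  centre : CentreFacts S Z (p ^ n)
  two : Two S Z U Yh U1 U2 (p ^ n)
  nat : NatSect (S : Subgroup G) Z (Z ⊓ centralizer ((⊤ : Subgroup G) : Set G))
    (Z ⊓ centralizer ((S : Subgroup G) : Set G)) c ρ θ
  nat' : NatSect (S : Subgroup G) U U2 U1 c ρ' θ'
  ker : ρ.ker = Cfsg.pCore p G
  ker' : ρ'.ker = Cfsg.pCore p G
  hU2 : U2 ≤ Yh
  cover : ∀ x : G, (orderOf x).Coprime p → ∀ u ∈ Cfsg.pCore p G, ⁅u, x⁆ ∈ U
  htE : t ∈ Cfsg.pResidual p G
  htp : (orderOf t).Coprime p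
  htρ : (ρ t).1 = -1
  htρ' : (ρ' t).1 = -1
  inv : Inv p (Cfsg.pCore p G) t

/-- The inverted part of `O_p(G)`. -/
abbrev Rp (p : ℕ) (t : G) : Subgroup G := invPart (Cfsg.pCore p G) t

variable {S : Sylow p G} {K : Subgroup G} {F : Type} [Field F] [Fintype F] {n : ℕ}
  {Z U Yh U1 U2 : Subgroup G} {c : G} {ρ : G →* Matrix.SpecialLinearGroup (Fin 2) F} {θ : G → Fin 2 → F}
  {ρ' : G →* Matrix.SpecialLinearGroup (Fin 2) F} {θ' : G → Fin 2 → F} {t : G}
  (hd : Data S K F n Z U Yh U1 U2 c ρ θ ρ' θ' t)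

include hd

theorem Data.charP : CharP F p := H72.charP_of_card hd.setup.card

theorem Data.two_ne : (2 : F) ≠ 0 := by
  haveI := hd.charP
  intro h0
  exact hd.inv.odd ((Nat.prime_dvd_prime_iff_eq hd.inv.prime Nat.prime_two).1
    ((CharP.cast_eq_zero_iff F p 2).1 (by exact_mod_cast h0)))

theorem Data.UQ : U ≤ Cfsg.pCore p G := hd.two.hUQ

theorem Data.U1U : U1 ≤ U := hd.two.sect.hLA

theorem Data.U2U : U2 ≤ U := hd.nat'.hBA

theorem Data.ZU : Z ≤ U := hd.two.hZU.trans hd.U2U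

theorem Data.YhU : Yh ≤ U := hd.two.hYh.trans hd.U1U

theorem Data.conj_mem {H : Subgroup G} (hH : H.Normal) {u : G} (hu : u ∈ H) : t * u * t ∈ H := by
  have := hH.conj_mem _ hu t
  rwa [hd.inv.inv_eq] at this

/-- The involution normalises `S`. -/
theorem Data.t_normalizer : t ∈ normalizer ((S : Subgroup G) : Set G) := by
  have hle : ∀ s ∈ (S : Subgroup G), t * s * t ∈ (S : Subgroup G) := fun s hs => by
    have h1 : ⁅s⁻¹, t⁆ ∈ (S : Subgroup G) := H35.pCore_le_sylow S (hd.inv.comm _)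
    have h2 := (S : Subgroup G).mul_mem hs h1
    rwa [hd.inv.commutator_eq, inv_inv, show s * (s⁻¹ * t * s * t) = t * s * t by group] at h2
  refine mem_normalizer_iff.2 fun s => ?_
  rw [hd.inv.inv_eq]
  refine ⟨hle s, fun h => ?_⟩
  have := hle _ h
  rwa [show t * (t * s * t) * t = (t * t) * s * (t * t) by group, hd.inv.sq, one_mul, mul_one] at this

theorem Data.theta_neg {z : G} (hz : z ∈ Z) : θ (t * z * t) = -θ z := by
  have := hd.nat.equiv t z hz
  rwa [hd.inv.inv_eq, hd.htρ, Matrix.neg_mulVec, Matrix.one_mulVec] at this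

theorem Data.theta'_neg {u : G} (hu : u ∈ U) : θ' (t * u * t) = -θ' u := by
  have := hd.nat'.equiv t u hu
  rwa [hd.inv.inv_eq, hd.htρ', Matrix.neg_mulVec, Matrix.one_mulVec] at this

theorem Data.zero_of_neg {v : Fin 2 → F} (h : v = -v) : v = 0 := by
  funext i
  have h1 : v i = -v i := congrFun h i
  have h2 : (2 : F) * v i = 0 := by linear_combination h1
  simpa [hd.two_ne] using h2

theorem Data.fixed_U2 {u : G} (hu : u ∈ U) (hf : t * u * t = u) : u ∈ U2 := by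
  refine (hd.nat'.map_eq_zero u hu).1 (hd.zero_of_neg ?_)
  conv_lhs => rw [← hf]
  exact hd.theta'_neg hu

theorem Data.fixed_C {z : G} (hz : z ∈ Z) (hf : t * z * t = z) :
    z ∈ Z ⊓ centralizer ((⊤ : Subgroup G) : Set G) := by
  refine (hd.nat.map_eq_zero z hz).1 (hd.zero_of_neg ?_)
  conv_lhs => rw [← hf]
  exact hd.theta_neg hz

theorem Data.C_fixed {z : G} (hz : z ∈ Z ⊓ centralizer ((⊤ : Subgroup G) : Set G)) : t * z * t = z := by
  rw [mem_centralizer_iff.1 hz.2 t (mem_top t), mul_assoc, hd.inv.sq, mul_one]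

theorem Data.C_conj {z : G} (hz : z ∈ Z ⊓ centralizer ((⊤ : Subgroup G) : Set G)) (g : G) : g * z * g⁻¹ = z := by
  rw [mem_centralizer_iff.1 hz.2 g (mem_top g), mul_inv_cancel_right]

theorem Data.C_comm {z : G} (hz : z ∈ Z ⊓ centralizer ((⊤ : Subgroup G) : Set G)) (g : G) : g * z = z * g :=
  mem_centralizer_iff.1 hz.2 g (mem_top g)

/-- An inverted element of the central layer lies in `Z`. -/
theorem Data.inverted_Z {u : G} (hu : u ∈ U2) (hi : t * u * t = u⁻¹) : u ∈ Z := by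
  refine hd.inv.mem_of_sq (hd.UQ (hd.U2U hu)) ?_
  have h1 := hd.two.comm2 u hu t
  have e : t * u⁻¹ * t = u := by rw [hd.inv.conj_inv, hi, inv_inv]
  rwa [hd.inv.commutator_eq, show u * t * u⁻¹ * t = u * (t * u⁻¹ * t) by group, e] at h1

/-- A fixed element of the central layer is central modulo `C`. -/
theorem Data.fixed_comm {u : G} (hu : u ∈ U2) (hf : t * u * t = u) (g : G) :
    ⁅u, g⁆ ∈ Z ⊓ centralizer ((⊤ : Subgroup G) : Set G) := by
  obtain ⟨d, v, hdf, hv, -, rfl, -⟩ := hd.inv.decomp g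
  have h1 : ⁅u, v⁆ ∈ Z ⊓ centralizer ((⊤ : Subgroup G) : Set G) :=
    hd.two.comm_UQ (commutator_mem_commutator (hd.U2U hu) hv)
  have e : ⁅u, d * v⁆ = ⁅u, d⁆ * (d * ⁅u, v⁆ * d⁻¹) := by simp only [commutatorElement_def]; group
  rw [e, hd.C_conj h1]
  refine mul_mem (hd.fixed_C (hd.two.comm2 u hu d) ?_) h1
  rw [commutatorElement_def, hd.inv.conj_mul, hd.inv.conj_mul, hd.inv.conj_mul, hd.inv.conj_inv, hd.inv.conj_inv,
    hf, hdf]

/-- Fixed elements of `U` centralise the residual. -/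
theorem Data.fixed_cent {u : G} (hu : u ∈ U) (hf : t * u * t = u) :
    u ∈ centralizer (Cfsg.pResidual p G : Set G) := by
  have hu2 := hd.fixed_U2 hu hf
  rw [mem_centralizer_iff]
  suffices h : Cfsg.pResidual p G ≤ centralizer ({u} : Set G) from fun x hx =>
    (mem_centralizer_singleton_iff.1 (h hx))
  refine pResidual_le fun x hx => mem_centralizer_singleton_iff.2 ?_
  have hpow : ∀ k : ℕ, ⁅u, x ^ k⁆ = ⁅u, x⁆ ^ k := by
    intro k
    induction k with
    | zero => rw [pow_zero, pow_zero, commutatorElement_one_right]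
    | succ k ih =>
      have e : ⁅u, x ^ (k + 1)⁆ = ⁅u, x ^ k⁆ * (x ^ k * ⁅u, x⁆ * (x ^ k)⁻¹) := by
        rw [pow_succ]; simp only [commutatorElement_def]; group
      rw [e, hd.C_conj (hd.fixed_comm hu2 hf x), ih, pow_succ]
  have h1 : ⁅u, x⁆ ^ orderOf x = 1 := by rw [← hpow, pow_orderOf_eq_one, commutatorElement_one_right]
  have h2 : ⁅u, x⁆ ^ p = 1 := hd.centre.elem.2 _ (hd.fixed_comm hu2 hf x).1
  have h3 := pow_gcd_eq_one.2 ⟨h1, h2⟩
  rw [hx.gcd_eq_one, pow_one] at h3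
  exact (commutatorElement_eq_one_iff_commute.1 h3).eq.symm

theorem Data.R_le_U : Rp p t ≤ U :=
  (Subgroup.closure_le _).2 fun v hv => by
    obtain ⟨k, hk⟩ := hd.inv.inverted_comm hv.1 hv.2
    rw [hk]
    exact hd.cover t hd.htp _ (pow_mem hv.1 k)

theorem Data.R_le_E : Rp p t ≤ Cfsg.pResidual p G :=
  hd.inv.invPart_le_of_mem H22.pResidual_normal hd.htE

/-- `U` is the fixed part times the inverted part. -/
theorem Data.U_decomp {u : G} (hu : u ∈ U) :
    ∃ d v, d ∈ U2 ∧ t * d * t = d ∧ v ∈ Rp p t ∧ v ∈ U ∧ t * v * t = v⁻¹ ∧ u = d * v := by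
  obtain ⟨d, v, hdf, hv, hvi, e, hH⟩ := hd.inv.decomp u
  obtain ⟨h1, h2⟩ := hH U hu (hd.conj_mem hd.two.sect.normA hu)
  exact ⟨d, v, hd.fixed_U2 h1 hdf, hdf, inverted_mem hv hvi, h2, hvi, e⟩

/-- The fixed part centralises the inverted part. -/
theorem Data.D_comm_R {d r : G} (hdD : d ∈ fixPart (Cfsg.pCore p G) t) (hr : r ∈ Rp p t) : d * r = r * d := by
  suffices h : Rp p t ≤ centralizer ({d} : Set G) from (mem_centralizer_singleton_iff.1 (h hr)).symm
  refine (Subgroup.closure_le _).2 fun v hv => mem_centralizer_singleton_iff.2 ?_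
  have hdf := (hd.inv.fixed_iff d).1 hdD.2
  obtain ⟨k, hk⟩ := hd.inv.inverted_comm hv.1 hv.2
  set u := v ^ k
  have huU : u ∈ U := pow_mem (hd.R_le_U (inverted_mem hv.1 hv.2)) k
  have hz : ⁅d, u⁆ ∈ Z ⊓ centralizer ((⊤ : Subgroup G) : Set G) := by
    rw [← commutatorElement_inv]
    exact inv_mem (hd.two.comm_UQ (commutator_mem_commutator huU hdD.1))
  have hdt : d * t * d⁻¹ = t := by
    have h1 : d * t = t * d := mem_centralizer_singleton_iff.1 hdD.2
    rw [h1, mul_inv_cancel_right]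
  have e1 : d * v * d⁻¹ = v := by
    calc d * v * d⁻¹ = ⁅d * u * d⁻¹, d * t * d⁻¹⁆ := by rw [hk]; simp only [commutatorElement_def]; group
      _ = ⁅d * u * d⁻¹, t⁆ := by rw [hdt]
      _ = ⁅⁅d, u⁆ * u, t⁆ := by rw [commutatorElement_def d u, inv_mul_cancel_right]
      _ = ⁅d, u⁆ * ⁅u, t⁆ * ⁅d, u⁆⁻¹ * (⁅d, u⁆ * t * ⁅d, u⁆⁻¹ * t⁻¹) := by
        simp only [commutatorElement_def]; group
      _ = v := by
        rw [← hk, ← hd.C_comm hz v, mul_inv_cancel_right, ← hd.C_comm hz t, mul_inv_cancel_right,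
          mul_inv_cancel, mul_one]
  calc v * d = d * v * d⁻¹ * d := by rw [e1]
    _ = d * v := by group

/-- The fixed part centralises the residual. -/
theorem Data.D_cent_E : fixPart (Cfsg.pCore p G) t ≤ centralizer (Cfsg.pResidual p G : Set G) := by
  classical
  haveI hRn := hd.inv.invPart_normal
  rw [le_centralizer_iff]
  set P0 := Subgroup.closure {x : G | t * x * t = x ∧ (orderOf x).Coprime p} with hP0
  have hE0 : (Rp p t ⊔ P0).Normal := by
    refine ⟨fun x hx g => ?_⟩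
    obtain ⟨d, v, hdf, hv, hvi, rfl, -⟩ := hd.inv.decomp g
    have hvR : v ∈ Rp p t ⊔ P0 := mem_sup_left (inverted_mem hv hvi)
    have hle : Rp p t ⊔ P0 ≤ (Rp p t ⊔ P0).comap (MulAut.conj d).toMonoidHom :=
      sup_le (fun y hy => mem_sup_left (hRn.conj_mem _ hy d)) ((Subgroup.closure_le _).2 fun y hy =>
        mem_sup_right (Subgroup.subset_closure ⟨by
          show t * (d * y * d⁻¹) * t = d * y * d⁻¹
          rw [hd.inv.conj_mul, hd.inv.conj_mul, hd.inv.conj_inv, hdf, hy.1], by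
          show (orderOf (MulAut.conj d y)).Coprime p
          rw [MulEquiv.orderOf_eq]; exact hy.2⟩))
    have h2 : d * (v * x * v⁻¹) * d⁻¹ ∈ Rp p t ⊔ P0 := hle (mul_mem (mul_mem hvR hx) (inv_mem hvR))
    rwa [show d * v * x * (d * v)⁻¹ = d * (v * x * v⁻¹) * d⁻¹ by group]
  have hgen : Cfsg.pResidual p G ≤ Rp p t ⊔ P0 := by
    refine pResidual_le fun x hx => ?_
    obtain ⟨d, v, hdf, hv, hvi, rfl, -⟩ := hd.inv.decomp x
    have hp : p.Prime := Fact.out
    set j := (orderOf d).factorization p with hj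
    have h1 : d ^ p ^ j ∈ P0 := Subgroup.subset_closure ⟨by rw [hd.inv.conj_pow, hdf], by
      rw [orderOf_pow, Nat.gcd_eq_right (Nat.ordProj_dvd _ _)]
      exact (Nat.coprime_ordCompl hp (orderOf_pos d).ne').symm⟩
    set π := QuotientGroup.mk' (Rp p t ⊔ P0)
    have e1 : π (d * v) = π d := by
      have e0 : π v = 1 := (QuotientGroup.eq_one_iff v).2 (mem_sup_left (inverted_mem hv hvi))
      rw [map_mul, e0, mul_one]
    have h2 : π (d * v) ^ p ^ j = 1 := by
      rw [e1, ← map_pow]; exact (QuotientGroup.eq_one_iff _).2 (mem_sup_right h1)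
    have h3 : π (d * v) ^ orderOf (d * v) = 1 := by rw [← map_pow, pow_orderOf_eq_one, map_one]
    have h4 := pow_gcd_eq_one.2 ⟨h3, h2⟩
    rw [(hx.pow_right j).gcd_eq_one, pow_one] at h4
    exact (QuotientGroup.eq_one_iff _).1 h4
  refine hgen.trans (sup_le (fun r hr => mem_centralizer_iff.2 fun d hdd => hd.D_comm_R hdd hr) ?_)
  refine (Subgroup.closure_le _).2 fun x hx => mem_centralizer_iff.2 fun d hdd => ?_
  have hdf := (hd.inv.fixed_iff d).1 hdd.2
  set e := ⁅d, x⁆ with he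
  have heU : e ∈ U := hd.cover x hx.2 d hdd.1
  have hef : t * e * t = e := by
    rw [he, commutatorElement_def, hd.inv.conj_mul, hd.inv.conj_mul, hd.inv.conj_mul, hd.inv.conj_inv,
      hd.inv.conj_inv, hdf, hx.1]
  have hex : x * e = e * x := mem_centralizer_iff.1 (hd.fixed_cent heU hef) x (H22.mem_pResidual_of_coprime hx.2)
  have hpow : ∀ k : ℕ, ⁅d, x ^ k⁆ = e ^ k := by
    intro k
    induction k with
    | zero => rw [pow_zero, pow_zero, commutatorElement_one_right]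
    | succ k ih =>
      have e2 : ⁅d, x ^ (k + 1)⁆ = ⁅d, x ^ k⁆ * (x ^ k * e * (x ^ k)⁻¹) := by
        rw [he, pow_succ]; simp only [commutatorElement_def]; group
      rw [e2, ((show Commute x e from hex).pow_left k).eq, mul_inv_cancel_right, ih, pow_succ]
  have h1 : e ^ orderOf x = 1 := by rw [← hpow, pow_orderOf_eq_one, commutatorElement_one_right]
  obtain ⟨i, hi⟩ := hd.inv.isP ⟨e, hd.UQ heU⟩
  have h3 := pow_gcd_eq_one.2 ⟨h1, congrArg Subtype.val hi⟩
  rw [(hx.2.pow_right i).gcd_eq_one, pow_one] at h3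
  exact (commutatorElement_eq_one_iff_commute.1 h3).eq

/-- `[O_p(G), E]` is the inverted part. -/
theorem Data.comm_QE : ⁅Cfsg.pCore p G, Cfsg.pResidual p G⁆ = Rp p t := by
  haveI hRn := hd.inv.invPart_normal
  refine le_antisymm (commutator_le.2 fun q hq e he => ?_)
    ((hd.inv.invPart_le_comm hd.htE).trans (commutator_mono hd.inv.invPart_le le_rfl))
  obtain ⟨d, hdd, r, hr, rfl⟩ := hd.inv.decomp_Q hq
  have h1 : ⁅r, e⁆ ∈ Rp p t := by
    rw [commutatorElement_def, show r * e * r⁻¹ * e⁻¹ = r * (e * r⁻¹ * e⁻¹) by group]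
    exact mul_mem hr (hRn.conj_mem _ (inv_mem hr) e)
  have h2 : ⁅d, e⁆ = 1 := commutatorElement_eq_one_iff_commute.2
    (mem_centralizer_iff.1 (hd.D_cent_E hdd) e he).symm
  have e1 : ⁅d * r, e⁆ = d * ⁅r, e⁆ * d⁻¹ * ⁅d, e⁆ := by simp only [commutatorElement_def]; group
  rw [e1, h2, mul_one]
  exact hRn.conj_mem _ h1 d

theorem Data.comm_RE : ⁅Rp p t, Cfsg.pResidual p G⁆ = Rp p t := by
  haveI hRn := hd.inv.invPart_normal
  exact le_antisymm (commutator_le_left _ _) (hd.inv.invPart_le_comm hd.htE)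

theorem Data.derived_le_C :
    ⁅Rp p t, Rp p t⁆ ≤ Z ⊓ centralizer ((⊤ : Subgroup G) : Set G) :=
  (commutator_mono hd.R_le_U hd.inv.invPart_le).trans hd.two.comm_UQ

/-- The derived group of `U` is that of the inverted part. -/
theorem Data.derived_eq : ⁅U, U⁆ = ⁅Rp p t, Rp p t⁆ := by
  refine le_antisymm (commutator_le.2 fun x hx y hy => ?_) (commutator_mono hd.R_le_U hd.R_le_U)
  obtain ⟨d, r, hd2, hdf, hr, -, -, rfl⟩ := hd.U_decomp hx
  obtain ⟨d', r', hd2', hdf', hr', -, -, rfl⟩ := hd.U_decomp hy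
  have hD : ∀ {z : G}, z ∈ U2 → t * z * t = z → z ∈ fixPart (Cfsg.pCore p G) t := fun {z} h1 h2 =>
    ⟨hd.UQ (hd.U2U h1), (hd.inv.fixed_iff z).2 h2⟩
  haveI := hd.two.elem.1
  have h1 : d * d' = d' * d := congrArg Subtype.val
    (IsMulCommutative.is_comm.comm (⟨d, hd.hU2 hd2⟩ : Yh) ⟨d', hd.hU2 hd2'⟩)
  have h2 : d * r' = r' * d := hd.D_comm_R (hD hd2 hdf) hr'
  have h3 : d' * r = r * d' := hd.D_comm_R (hD hd2' hdf') hr
  have hC := hd.derived_le_C (commutator_mem_commutator hr hr')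
  have e : ⁅d * r, d' * r'⁆ = ⁅r, r'⁆ := by
    have e1 : ⁅d * r, d' * r'⁆ = d * (⁅r, d'⁆ * (d' * ⁅r, r'⁆ * d'⁻¹)) * d⁻¹ * (⁅d, d'⁆ * (d' * ⁅d, r'⁆ * d'⁻¹)) := by
      simp only [commutatorElement_def]; group
    rw [e1, commutatorElement_eq_one_iff_commute.2 (show Commute r d' from h3.symm),
      commutatorElement_eq_one_iff_commute.2 (show Commute d d' from h1),
      commutatorElement_eq_one_iff_commute.2 (show Commute d r' from h2), hd.C_conj hC, one_mul, hd.C_conj hC]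
    group
  rw [e]
  exact commutator_mem_commutator hr hr'

/-- The inverted part meets the centralizer of the residual in its derived group. -/
theorem Data.R_inf_cent : Rp p t ⊓ centralizer (Cfsg.pResidual p G : Set G) = ⁅Rp p t, Rp p t⁆ := by
  haveI hRn := hd.inv.invPart_normal
  refine le_antisymm (fun x hx => hd.inv.fixed_mem_derived hx.1 ?_) (le_inf (commutator_le_left _ _) ?_)
  · have h1 : t * x = x * t := mem_centralizer_iff.1 hx.2 t hd.htE
    rw [h1, mul_assoc, hd.inv.sq, mul_one]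
  · exact hd.derived_le_C.trans (inf_le_right.trans (centralizer_le (le_top (a := Cfsg.pResidual p G))))

/-! ### The commutators of the centre with `S` -/

theorem Data.comm_ZS_inverted {z s : G} (hz : z ∈ Z) (hs : s ∈ (S : Subgroup G)) :
    t * ⁅z, s⁆ * t = ⁅z, s⁆⁻¹ := by
  obtain ⟨z0, z1, hz0f, -, hz1i, rfl, hH⟩ := hd.inv.decomp z
  obtain ⟨hz0, hz1⟩ := hH Z hz (hd.conj_mem hd.centre.normal hz)
  have hz0C := hd.fixed_C hz0 hz0f
  have e1 : ⁅z0 * z1, s⁆ = ⁅z1, s⁆ := by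
    simp only [commutatorElement_def]
    rw [show z0 * z1 * s * (z0 * z1)⁻¹ * s⁻¹ = z0 * (z1 * s * z1⁻¹) * z0⁻¹ * s⁻¹ by group,
      ← hd.C_comm hz0C, mul_inv_cancel_right]
  rw [e1]
  haveI := hd.centre.elem.1
  obtain ⟨s', v, hs'f, hv, -, hse, -⟩ := hd.inv.decomp s
  have hvz : ∀ y ∈ Z, v * y = y * v := fun y hy => (mem_centralizer_iff.1 (hd.centre.cent hv) y hy).symm
  have e2 : ⁅z1, s⁆ = z1 * (s' * z1⁻¹ * s'⁻¹) := by
    rw [hse, commutatorElement_def]
    rw [show z1 * (s' * v) * z1⁻¹ * (s' * v)⁻¹ = z1 * s' * (v * z1⁻¹) * v⁻¹ * s'⁻¹ by group,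
      hvz _ (Z.inv_mem hz1)]
    group
  rw [e2, hd.inv.conj_mul, hd.inv.conj_mul, hd.inv.conj_mul, hd.inv.conj_inv, hd.inv.conj_inv, hs'f, hz1i,
    inv_inv, mul_inv_rev]
  have hw : (s' * z1⁻¹ * s'⁻¹)⁻¹ = s' * z1 * s'⁻¹ := by group
  rw [hw]
  exact congrArg Subtype.val (IsMulCommutative.is_comm.comm (⟨z1⁻¹, Z.inv_mem hz1⟩ : Z)
    ⟨s' * z1 * s'⁻¹, hd.centre.normal.conj_mem _ hz1 s'⟩)

theorem Data.comm_ZS_le_R : ⁅Z, (S : Subgroup G)⁆ ≤ Rp p t :=
  commutator_le.2 fun _ hz _ hs => inverted_mem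
    (hd.centre.le (by
      rw [commutatorElement_def, show ∀ z s : G, z * s * z⁻¹ * s⁻¹ = z * (s * z⁻¹ * s⁻¹) from fun z s => by group]
      exact Z.mul_mem hz (hd.centre.normal.conj_mem _ (Z.inv_mem hz) _)))
    (hd.comm_ZS_inverted hz hs)

theorem Data.comm_ZS_le_line :
    ⁅Z, (S : Subgroup G)⁆ ≤ Z ⊓ centralizer ((S : Subgroup G) : Set G) :=
  commutator_le.2 fun z hz s hs => hd.two.comm1 z (hd.two.sect.hBL (hd.two.hZU hz)) s hs

theorem Data.comm_ZS_inf : ⁅Z, (S : Subgroup G)⁆ ⊓ centralizer ((⊤ : Subgroup G) : Set G) = ⊥ := by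
  refine eq_bot_iff.2 fun x hx => ?_
  have hxZ : x ∈ Z := (hd.comm_ZS_le_line hx.1).1
  have hle : ⁅Z, (S : Subgroup G)⁆ ≤
      { carrier := {y | y ∈ Z ∧ t * y * t = y⁻¹}
        one_mem' := ⟨one_mem _, by rw [mul_one, hd.inv.sq, inv_one]⟩
        mul_mem' := fun {a b} ha hb => ⟨mul_mem ha.1 hb.1, by
          haveI := hd.centre.elem.1
          rw [hd.inv.conj_mul, ha.2, hb.2, mul_inv_rev]
          exact congrArg Subtype.val
            (IsMulCommutative.is_comm.comm (⟨a⁻¹, inv_mem ha.1⟩ : Z) ⟨b⁻¹, inv_mem hb.1⟩)⟩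
        inv_mem' := fun {a} ha => ⟨inv_mem ha.1, by rw [hd.inv.conj_inv, ha.2]⟩ : Subgroup G } :=
    commutator_le.2 fun z hz s hs => ⟨(hd.comm_ZS_le_line (commutator_mem_commutator hz hs)).1,
      hd.comm_ZS_inverted hz hs⟩
  exact mem_bot.2 (hd.inv.eq_one (hd.centre.le hxZ) (hd.C_fixed ⟨hxZ, hx.2⟩) (hle hx.1).2)

theorem Data.card_comm_ZS : Nat.card ↥⁅Z, (S : Subgroup G)⁆ = p ^ n := by
  haveI := hd.centre.normal
  rw [← hd.setup.card, ← Nat.card_eq_fintype_card]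
  set L0 := ⁅Z, (S : Subgroup G)⁆ with hL0
  have hline : ∀ x : L0, θ (x : G) 1 = 0 := fun x =>
    (hd.nat.line _ (hd.comm_ZS_le_line x.2).1).1 (hd.comm_ZS_le_line x.2)
  refine Nat.card_congr (Equiv.ofBijective (fun x : L0 => θ (x : G) 0) ⟨fun x y hxy => ?_, fun e => ?_⟩)
  · have hxZ := (hd.comm_ZS_le_line x.2).1
    have hyZ := (hd.comm_ZS_le_line y.2).1
    have h0 : θ ((x : G)⁻¹ * y) = 0 := by
      rw [hd.nat.map_mul _ (Z.inv_mem hxZ) _ hyZ, hd.nat.map_inv' hxZ]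
      ext i; fin_cases i
      · simp [show θ (x : G) 0 = θ (y : G) 0 from hxy]
      · simp [hline x, hline y]
    have h1 := (hd.nat.map_eq_zero _ (Z.mul_mem (Z.inv_mem hxZ) hyZ)).1 h0
    have h2 : (x : G)⁻¹ * y ∈ L0 ⊓ centralizer ((⊤ : Subgroup G) : Set G) :=
      ⟨L0.mul_mem (L0.inv_mem x.2) y.2, h1.2⟩
    have h3 : (x : G)⁻¹ * y ∈ (⊥ : Subgroup G) := hd.comm_ZS_inf ▸ h2
    rw [mem_bot, inv_mul_eq_one] at h3
    exact Subtype.ext h3
  · obtain ⟨z, hz, hzθ⟩ := hd.nat.onto ![0, 1]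
    obtain ⟨s, hs, hsρ⟩ := upper_onto hd.setup hd.nat hd.ker.ge e
    have hm : ⁅s, z⁆ ∈ L0 := by rw [← commutatorElement_inv]; exact inv_mem (commutator_mem_commutator hz hs)
    refine ⟨⟨⁅s, z⁆, hm⟩, ?_⟩
    show θ ⁅s, z⁆ 0 = e
    rw [commutatorElement_def, hd.nat.map_mul _ (hd.centre.normal.conj_mem _ hz s) _ (Z.inv_mem hz),
      hd.nat.equiv s z hz, hd.nat.map_inv' hz, hsρ, hzθ, H75.SL2Natural.xu_val]
    simp [Matrix.mulVec, dotProduct, Fin.sum_univ_two]

end Cfsg.Agent.H35.PushExceptional
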