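import Cfsg.Agent.H34.Push.Spec
import Cfsg.Agent.H35.PushExceptional.Layers
import Cfsg.Agent.H24.PGroupBasic
import Cfsg.Agent.H72.PCore
import Mathlib

/-!
Rank one pushing up with commuting neighbours: the data of the group.
-/

set_option autoImplicit false
set_option linter.style.haveILetI false
set_option linter.unusedSectionVars false

open scoped commutatorElement

namespace Cfsg.Agent.H35.PushExceptional

open Cfsg.Agent Subgroup H72.RankOne H72.Push H75.SL2Natural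

variable {G : Type*} [Group G] [Finite G] {p : ℕ} [Fact p.Prime] {S : Sylow p G} {K : Subgroup G} {F : Type}
  [Field F] [Fintype F] {n : ℕ} {Z U Yh U1 U2 Y : Subgroup G} {c : G}
  {ρ : G →* Matrix.SpecialLinearGroup (Fin 2) F} {θ : G → Fin 2 → F}
  {ρ' : G →* Matrix.SpecialLinearGroup (Fin 2) F} {θ' : G → Fin 2 → F} {t : G}
  (hd : Data S K F n Z U Yh U1 U2 c ρ θ ρ' θ' t)
  (hcard : Nat.card ↥⁅U, U⁆ = p ^ n) (hYS : Y ≤ (S : Subgroup G))
  (hYQ : Y ⊔ Cfsg.pCore p G = (S : Subgroup G)) (hYc : ∀ x ∈ Y, ∀ y ∈ Y, x * y = y * x)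
  (hYD : ∀ k ∈ fixPart (Cfsg.pCore p G) t, ∀ y ∈ Y, ⁅k, y⁆ ∈ Rp p t)
  (hYsq : ∀ y ∈ Y, y ∉ Cfsg.pCore p G → ∃ x ∈ U, ⁅y, ⁅y, x⁆⁆ ∉ centralizer ((⊤ : Subgroup G) : Set G))

include hd

theorem Data.R_le_Q : Rp p t ≤ Cfsg.pCore p G := hd.inv.invPart_le

include hYS hYQ hYc hYD

/-- The residual meets `O_p(G)` in the inverted part: a transfer into an abelian Sylow subgroup. -/
theorem Data.E_inf_Q : Cfsg.pResidual p G ⊓ Cfsg.pCore p G = Rp p t := by
  classical
  haveI hRn := hd.inv.invPart_normal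
  haveI := hd.inv.normal
  set Q := Cfsg.pCore p G
  set E := Cfsg.pResidual p G
  refine le_antisymm (fun x0 hx0 => ?_) (le_inf hd.R_le_E hd.R_le_Q)
  set π := QuotientGroup.mk' (Rp p t) with hπ
  -- the image of `S ⊓ E` is abelian
  have hdec : ∀ x ∈ (S : Subgroup G), ∃ y ∈ Y, ∃ d ∈ fixPart Q t, π x = π y * π d := by
    intro x hx
    obtain ⟨y, hy, k, hk, rfl⟩ := mem_sup_of_normal_right.1 (hYQ.symm ▸ hx : x ∈ Y ⊔ Q)
    obtain ⟨d, hdd, r, hr, rfl⟩ := hd.inv.decomp_Q hk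
    refine ⟨y, hy, d, hdd, ?_⟩
    rw [map_mul, map_mul, show π r = 1 from (QuotientGroup.eq_one_iff r).2 hr, mul_one]
  have hDE : ∀ {d e : G}, d ∈ fixPart Q t → e ∈ E → Commute (π d) (π e) := fun {d e} hdd he =>
    (show Commute d e from (mem_centralizer_iff.1 (hd.D_cent_E hdd) e he).symm).map π
  have hab : ∀ x ∈ (S : Subgroup G), x ∈ E → ∀ x' ∈ (S : Subgroup G), x' ∈ E → Commute (π x) (π x') := by
    intro x hx hxE x' hx' hx'E
    obtain ⟨y, hy, d, hdd, e⟩ := hdec x hx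
    obtain ⟨y', hy', d', hdd', e'⟩ := hdec x' hx'
    have h1 : Commute (π y) (π x') := by
      rw [e']
      refine Commute.mul_right ((show Commute y y' from hYc y hy y' hy').map π) ?_
      rw [← commutatorElement_eq_one_iff_commute, ← map_commutatorElement]
      refine (QuotientGroup.eq_one_iff _).2 ?_
      rw [← commutatorElement_inv]
      exact inv_mem (hYD d' hdd' y hy)
    rw [e]
    exact h1.mul_left (hDE hdd hx'E)
  -- transfer
  let f0 : ↥E →* G ⧸ Rp p t := π.comp E.subtype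
  let f : ↥E →* ↥f0.range := f0.rangeRestrict
  have hfs : Function.Surjective f := f0.rangeRestrict_surjective
  set Pm : Subgroup ↥f0.range := (((S : Subgroup G).subgroupOf E)).map f with hPm
  haveI : IsMulCommutative Pm := ⟨⟨fun a b => by
    obtain ⟨_, ⟨x, hx, rfl⟩⟩ := a
    obtain ⟨_, ⟨y, hy, rfl⟩⟩ := b
    exact Subtype.ext (Subtype.ext (hab _ hx x.2 _ hy y.2).eq)⟩⟩
  have hPp : IsPGroup p Pm := by
    refine IsPGroup.map ?_ f
    exact S.isPGroup'.comap_of_injective E.subtype E.subtype_injective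
  letI : CommGroup Pm := { (inferInstance : Group Pm) with mul_comm := IsMulCommutative.is_comm.comm }
  let T : ↥f0.range →* Pm := MonoidHom.transfer (MonoidHom.id Pm)
  have hT : ∀ x : ↥E, T (f x) = 1 := by
    have hle : E ≤ ((T.comp f).ker).map E.subtype := pResidual_le fun x hx => by
      have hxE : x ∈ E := H22.mem_pResidual_of_coprime hx
      refine ⟨⟨x, hxE⟩, ?_, rfl⟩
      show T (f ⟨x, hxE⟩) = 1
      obtain ⟨i, hi⟩ := hPp (T (f ⟨x, hxE⟩))
      have h1 : T (f ⟨x, hxE⟩) ^ orderOf x = 1 := by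
        rw [← map_pow, ← map_pow, show (⟨x, hxE⟩ : ↥E) ^ orderOf x = 1 from Subtype.ext (pow_orderOf_eq_one x),
          map_one, map_one]
      have h3 := pow_gcd_eq_one.2 ⟨h1, hi⟩
      rwa [(hx.pow_right i).gcd_eq_one, pow_one] at h3
    intro x
    obtain ⟨x', hx', he⟩ := hle x.2
    rwa [← Subtype.ext (show (x' : G) = x from he)]
  -- an element of the intersection
  obtain ⟨hxE, hxQ⟩ := hx0
  have hcen : ∀ z : ↥f0.range, z * f ⟨x0, hxE⟩ = f ⟨x0, hxE⟩ * z := by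
    intro z
    obtain ⟨e, rfl⟩ := hfs z
    refine Subtype.ext ?_
    show π e * π x0 = π x0 * π e
    have h1 : π ⁅x0, (e : G)⁆ = 1 :=
      (QuotientGroup.eq_one_iff _).2 (hd.comm_QE.le (commutator_mem_commutator hxQ e.2))
    rw [map_commutatorElement] at h1
    exact (commutatorElement_eq_one_iff_commute.1 h1).eq.symm
  have hkey : ∀ (k : ℕ) (g₀ : ↥f0.range),
      g₀⁻¹ * f ⟨x0, hxE⟩ ^ k * g₀ ∈ Pm → g₀⁻¹ * f ⟨x0, hxE⟩ ^ k * g₀ = f ⟨x0, hxE⟩ ^ k := by
    intro k g₀ _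
    rw [mul_assoc, ← ((show Commute g₀ (f ⟨x0, hxE⟩) from hcen g₀).pow_right k).eq, inv_mul_cancel_left]
  have h1 := hT ⟨x0, hxE⟩
  rw [show T (f ⟨x0, hxE⟩) = MonoidHom.id Pm ⟨_, MonoidHom.transfer_eq_pow_aux (f ⟨x0, hxE⟩) hkey⟩ from
    MonoidHom.transfer_eq_pow (MonoidHom.id Pm) _ hkey] at h1
  have h2 : f ⟨x0, hxE⟩ ^ Pm.index = 1 := congrArg Subtype.val h1
  have hidx : Pm.index.Coprime p := by
    refine Nat.Coprime.symm ((Fact.out : p.Prime).coprime_iff_not_dvd.2 fun hdvd => ?_)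
    exact H22.sylow_not_dvd_relIndex_normal S E (hdvd.trans (index_map_dvd _ hfs))
  obtain ⟨i, hi⟩ := hd.inv.isP ⟨x0, hxQ⟩
  have h3 : f ⟨x0, hxE⟩ ^ p ^ i = 1 := by
    rw [← map_pow, show (⟨x0, hxE⟩ : ↥E) ^ p ^ i = 1 from
      Subtype.ext (show x0 ^ p ^ i = 1 from congrArg Subtype.val hi), map_one]
  have h4 := pow_gcd_eq_one.2 ⟨h2, h3⟩
  rw [(hidx.pow_right i).gcd_eq_one, pow_one] at h4
  exact (QuotientGroup.eq_one_iff _).1 (congrArg Subtype.val h4)

/-- The core of the residual is the inverted part. -/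
theorem Data.core_E : Cfsg.pCoreOf p (Cfsg.pResidual p G) = Rp p t := by
  haveI : (Cfsg.pCore p ↥(Cfsg.pResidual p G)).Characteristic :=
    characteristic_iff_map_le.2 fun φ => (H72.pCore_map_equiv φ p).le
  haveI : (Cfsg.pResidual p G).Normal := H22.pResidual_normal
  haveI hn : (Cfsg.pCoreOf p (Cfsg.pResidual p G)).Normal := ConjAct.normal_of_characteristic_of_normal
  haveI := hd.inv.invPart_normal
  rw [← hd.E_inf_Q hYS hYQ hYc hYD]
  refine le_antisymm (le_inf (H72.pCoreOf_le p _) (H72.le_pCore hn (H72.pCoreOf_isPGroup p _))) ?_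
  rw [hd.E_inf_Q hYS hYQ hYc hYD]
  exact H72.le_pCoreOf hd.R_le_E le_normalizer_of_normal (hd.inv.isP.to_le hd.R_le_Q)

omit hYS hYQ hYc hYD
include hcard

theorem Data.R_center : Rp p t ⊓ centralizer (Rp p t : Set G) = Rp p t ⊓ Z := by
  haveI hRn := hd.inv.invPart_normal
  haveI : (centralizer (Rp p t : Set G)).Normal := normal_centralizer
  have hZc : ∀ {z : G}, z ∈ Z → z ∈ centralizer (Rp p t : Set G) := fun {z} hz => mem_centralizer_iff.2 fun r hr =>
    (mem_centralizer_iff.1 (hd.centre.cent (hd.R_le_Q hr)) z hz).symm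
  have hU2c : U2 ≤ centralizer (Rp p t : Set G) := fun u hu => by
    obtain ⟨d, v, hdf, hvQ, hvi, rfl, hH⟩ := hd.inv.decomp u
    obtain ⟨hd2, hv2⟩ := hH U2 hu (hd.conj_mem hd.nat'.normB hu)
    refine mul_mem (mem_centralizer_iff.2 fun r hr => ?_) (hZc (hd.inverted_Z hv2 hvi))
    exact (hd.D_comm_R ⟨hd.UQ (hd.U2U hd2), (hd.inv.fixed_iff d).2 hdf⟩ hr).symm
  refine le_antisymm (fun x hx => ⟨hx.1, ?_⟩) (fun x hx => ⟨hx.1, hZc hx.2⟩)
  rcases hd.nat'.image_cases (H := Rp p t ⊓ centralizer (Rp p t : Set G)) inferInstance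
    (inf_le_left.trans hd.R_le_U) with h1 | h1
  · obtain ⟨d, v, hdf, hvQ, hvi, e, hH⟩ := hd.inv.decomp x
    obtain ⟨hdR, hvR⟩ := hH (Rp p t) hx.1 (hd.conj_mem hRn hx.1)
    obtain ⟨-, hv2⟩ := hH U2 (h1 hx) (hd.conj_mem hd.nat'.normB (h1 hx))
    rw [e]
    exact mul_mem (hd.derived_le_C (hd.inv.fixed_mem_derived hdR hdf)).1 (hd.inverted_Z hv2 hvi)
  · exfalso
    have h2 : U ≤ centralizer (Rp p t : Set G) := h1.trans (sup_le inf_le_right hU2c)
    have h3 : ⁅Rp p t, Rp p t⁆ = ⊥ := commutator_eq_bot_iff_le_centralizer.2 (hd.R_le_U.trans h2)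
    rw [hd.derived_eq, h3, Subgroup.card_bot] at hcard
    exact (Nat.one_lt_pow (by have := hd.setup.pos; omega) (Fact.out : p.Prime).one_lt).ne hcard

theorem Data.omega_R : Cfsg.omegaOneCenter p (Rp p t) = Rp p t ⊓ Z := by
  show Cfsg.omegaOne p (Rp p t ⊓ centralizer (Rp p t : Set G)) = _
  rw [hd.R_center hcard]
  exact le_antisymm (H72.omegaOne_le _ _) fun x hx => H72.mem_omegaOne hx (hd.centre.elem.2 x hx.2)

theorem Data.omega_R_cent :
    Cfsg.omegaOneCenter p (Rp p t) ⊓ centralizer (Cfsg.pResidual p G : Set G) = ⁅Rp p t, Rp p t⁆ := by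
  rw [hd.omega_R hcard, ← hd.R_inf_cent]
  refine le_antisymm (fun x hx => ⟨hx.1.1, hx.2⟩) (fun x hx => ⟨⟨hx.1, ?_⟩, hx.2⟩)
  exact (hd.derived_le_C (hd.R_inf_cent ▸ hx)).1

omit hcard

theorem Data.centre_le_ncl : Z ≤ normalClosure (Cfsg.omegaOneCenter p (S : Subgroup G) : Set G) := by
  set C := Z ⊓ centralizer ((⊤ : Subgroup G) : Set G)
  have hO : (S : Subgroup G) ⊓ centralizer ((S : Subgroup G) : Set G) ≤ Cfsg.omegaOneCenter p (S : Subgroup G) :=
    fun x hx => H72.mem_omegaOne hx (hd.centre.elem.2 x (hd.centre.hZS hx))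
  have hZS : Z ⊓ centralizer ((S : Subgroup G) : Set G) ≤
      normalClosure (Cfsg.omegaOneCenter p (S : Subgroup G) : Set G) := fun x hx =>
    subset_normalClosure (hO ⟨H35.pCore_le_sylow S (hd.centre.le hx.1), hx.2⟩)
  haveI := hd.centre.normal
  have hle : normalClosure (Cfsg.omegaOneCenter p (S : Subgroup G) : Set G) ≤ Z :=
    normalClosure_le_normal ((H72.omegaOne_le _ _).trans hd.centre.hZS)
  rcases hd.nat.image_cases normalClosure_normal hle with h1 | h1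
  · exfalso
    have h2 : ⁅Z, (S : Subgroup G)⁆ = ⊥ := by
      rw [← hd.comm_ZS_inf, eq_comm, inf_eq_left]
      exact fun x hx => (h1 (hZS (hd.comm_ZS_le_line hx))).2
    have h3 := hd.card_comm_ZS
    rw [h2, Subgroup.card_bot] at h3
    exact (Nat.one_lt_pow (by have := hd.setup.pos; omega) (Fact.out : p.Prime).one_lt).ne h3
  · exact h1.trans (sup_le le_rfl ((inf_le_inf_left _ (centralizer_le le_top)).trans hZS))

theorem Data.map_E {σ : G →* Matrix.SpecialLinearGroup (Fin 2) F} (hσ : Function.Surjective σ) :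
    (σ.comp (Cfsg.pResidual p G).subtype).range = commutator (Matrix.SpecialLinearGroup (Fin 2) F) := by
  haveI := hd.charP
  rw [← MonoidHom.map_range, Subgroup.range_subtype, H22.map_pResidual_of_surjective σ hσ, pResidual_sl2]

theorem Data.frattini_Q :
    ⁅(frattini ↥(Cfsg.pCore p G)).map (Cfsg.pCore p G).subtype, Cfsg.pResidual p G⁆ = ⊥ := by
  rw [commutator_eq_bot_iff_le_centralizer, map_le_iff_le_comap]
  haveI : (centralizer (Cfsg.pResidual p G : Set G)).Normal := normal_centralizer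
  have hC : ∀ {z : G}, z ∈ Z ⊓ centralizer ((⊤ : Subgroup G) : Set G) → z ∈ centralizer (Cfsg.pResidual p G : Set G) :=
    fun {z} hz => centralizer_le (le_top (a := Cfsg.pResidual p G)) hz.2
  refine H24.frattini_le_of (p := p) _ ?_ fun x => ?_
  · rw [commutator_def, commutator_le]
    intro x _ y _
    rw [mem_comap, map_commutatorElement]
    show ⁅(x : G), (y : G)⁆ ∈ _
    obtain ⟨d, hdd, r, hr, ex⟩ := hd.inv.decomp_Q x.2
    obtain ⟨d', hdd', r', hr', ey⟩ := hd.inv.decomp_Q y.2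
    rw [ex, ey]
    have h1 : Commute r d' := (hd.D_comm_R hdd' hr).symm
    have h2 : Commute d r' := hd.D_comm_R hdd hr'
    have e : ⁅d * r, d' * r'⁆ =
        d * (⁅r, d'⁆ * (d' * ⁅r, r'⁆ * d'⁻¹)) * d⁻¹ * (⁅d, d'⁆ * (d' * ⁅d, r'⁆ * d'⁻¹)) := by
      simp only [commutatorElement_def]; group
    rw [e, commutatorElement_eq_one_iff_commute.2 h1, commutatorElement_eq_one_iff_commute.2 h2]
    simp only [one_mul, mul_one, mul_inv_cancel]
    refine mul_mem (Subgroup.Normal.conj_mem inferInstance _ (Subgroup.Normal.conj_mem inferInstance _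
      (hC (hd.derived_le_C (commutator_mem_commutator hr hr'))) _) _) ?_
    rw [commutatorElement_def]
    exact mul_mem (mul_mem (mul_mem (hd.D_cent_E hdd) (hd.D_cent_E hdd')) (inv_mem (hd.D_cent_E hdd)))
      (inv_mem (hd.D_cent_E hdd'))
  · rw [mem_comap, map_pow]
    show (x : G) ^ p ∈ _
    obtain ⟨d, hdd, r, hr, ex⟩ := hd.inv.decomp_Q x.2
    rw [ex, (show Commute d r from hd.D_comm_R hdd hr).mul_pow]
    exact mul_mem (pow_mem (hd.D_cent_E hdd) p) (hC (hd.two.powU r (hd.R_le_U hr)))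

theorem Data.frattini_R : (frattini ↥(Rp p t)).map (Rp p t).subtype = ⁅Rp p t, Rp p t⁆ := by
  refine le_antisymm ?_ ?_
  · rw [map_le_iff_le_comap]
    refine H24.frattini_le_of (p := p) _ ?_ fun x => ?_
    · rw [commutator_def, commutator_le]
      intro x _ y _
      rw [mem_comap, map_commutatorElement]
      exact commutator_mem_commutator x.2 y.2
    · rw [mem_comap, map_pow, ← hd.R_inf_cent]
      exact ⟨pow_mem x.2 p, centralizer_le (le_top (a := Cfsg.pResidual p G)) (hd.two.powU _ (hd.R_le_U x.2)).2⟩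
  · refine commutator_le.2 fun x hx y hy => ?_
    refine ⟨⁅(⟨x, hx⟩ : ↥(Rp p t)), ⟨y, hy⟩⁆, ?_, by simp [map_commutatorElement]⟩
    refine H24.commutator_le_frattini (hd.inv.isP.to_le hd.R_le_Q) ?_
    rw [commutator_def]
    exact commutator_mem_commutator (mem_top _) (mem_top _)

/-- `E` and `S` commute to `E`. -/
theorem Data.comm_ES : ⁅Cfsg.pResidual p G, (S : Subgroup G)⁆ = Cfsg.pResidual p G := by
  haveI hEn : (Cfsg.pResidual p G).Normal := H22.pResidual_normal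
  set E := Cfsg.pResidual p G
  set N := ⁅E, (S : Subgroup G)⁆ with hN
  have hgen : E ⊔ (S : Subgroup G) = ⊤ := H22.pResidual_sup_sylow S
  haveI hNn : N.Normal := by
    refine normalizer_eq_top_iff.1 (eq_top_iff.2 (hgen ▸ sup_le (fun e he => ?_) (fun s hs => ?_)))
    · have hle : ∀ e ∈ E, ∀ x ∈ N, e * x * e⁻¹ ∈ N := by
        intro e he x hx
        have : N ≤ N.comap (MulAut.conj e).toMonoidHom := commutator_le.2 fun e' he' s hs => by
          show e * ⁅e', s⁆ * e⁻¹ ∈ N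
          rw [show e * ⁅e', s⁆ * e⁻¹ = ⁅e * e', s⁆ * ⁅e, s⁆⁻¹ by simp only [commutatorElement_def]; group]
          exact mul_mem (commutator_mem_commutator (mul_mem he he') hs) (inv_mem (commutator_mem_commutator he hs))
        exact this hx
      refine mem_normalizer_iff.2 fun x => ⟨hle e he x, fun hx => ?_⟩
      simpa [mul_assoc] using hle e⁻¹ (inv_mem he) _ hx
    · have hle : ∀ s ∈ (S : Subgroup G), ∀ x ∈ N, s * x * s⁻¹ ∈ N := by
        intro s hs x hx
        have : N ≤ N.comap (MulAut.conj s).toMonoidHom := commutator_le.2 fun e' he' s' hs' => by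
          show s * ⁅e', s'⁆ * s⁻¹ ∈ N
          rw [show s * ⁅e', s'⁆ * s⁻¹ = ⁅s * e' * s⁻¹, s * s' * s⁻¹⁆ by simp only [commutatorElement_def]; group]
          exact commutator_mem_commutator (hEn.conj_mem _ he' s) (mul_mem (mul_mem hs hs') (inv_mem hs))
        exact this hx
      refine mem_normalizer_iff.2 fun x => ⟨hle s hs x, fun hx => ?_⟩
      simpa [mul_assoc] using hle s⁻¹ (inv_mem hs) _ hx
  refine le_antisymm (commutator_le_left E _) (pResidual_le fun x hx => ?_)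
  refine coprime_mem_supplement S.isPGroup' ?_ hx
  by_contra hne
  have hK : N ≤ K := Setup.normal_le_K hd.setup hne
  have hQ : Triv S ρ := hd.ker.ge
  obtain ⟨s, hs, hsρ⟩ := upper_onto hd.setup hd.nat hQ 1
  obtain ⟨g, hg⟩ := hd.nat.surj (yl 1)
  obtain ⟨e, he, s', hs', hges⟩ := mem_sup_of_normal_left.1 (hgen ▸ mem_top g : g ∈ E ⊔ (S : Subgroup G))
  obtain ⟨τ, hτ⟩ := hd.nat.upper s' hs'
  have h1 : ρ ⁅g, s⁆ = ρ ⁅e, s⁆ := by
    have h2 : Commute (xu τ : Matrix.SpecialLinearGroup (Fin 2) F) (xu 1) := by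
      rw [commute_iff_eq, ← xu_add, ← xu_add, add_comm]
    rw [map_commutatorElement, map_commutatorElement, ← hges, map_mul, hτ, hsρ, commutatorElement_def,
      commutatorElement_def, mul_inv_rev,
      show ρ e * xu τ * xu 1 * ((xu τ)⁻¹ * (ρ e)⁻¹) = ρ e * (xu τ * xu 1 * (xu τ)⁻¹) * (ρ e)⁻¹ by group,
      h2.eq, mul_inv_cancel_right]
  have h3 : ρ ⁅g, s⁆ ∈ Subgroup.center _ :=
    h1 ▸ map_K_central hd.setup hd.nat hQ (hK (commutator_mem_commutator he hs))
  rw [map_commutatorElement, hg, hsρ, commutatorElement_def] at h3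
  have h4 : ((yl (1 : F) * xu (1 : F) * (yl (1 : F))⁻¹ * (xu (1 : F))⁻¹ : Matrix.SpecialLinearGroup (Fin 2) F) :
      Matrix (Fin 2) (Fin 2) F) 0 1 = 0 := by
    rcases H6.mem_center_sl2.1 h3 with hh' | hh' <;> rw [hh'] <;> simp
  simp [xu_val, yl_val, Matrix.SpecialLinearGroup.coe_mul, Matrix.SpecialLinearGroup.coe_inv,
    Matrix.adjugate_fin_two, Matrix.mul_apply, Fin.sum_univ_two] at h4

theorem Data.act_centre (hcard : Nat.card ↥⁅U, U⁆ = p ^ n) :
    Cfsg.ActsAsSL2OnSection F (commutator (Matrix.SpecialLinearGroup (Fin 2) F)) (Cfsg.pResidual p G)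
      (Cfsg.omegaOneCenter p (Rp p t))
      (Cfsg.omegaOneCenter p (Rp p t) ⊓ centralizer (Cfsg.pResidual p G : Set G)) := by
  rw [hd.omega_R_cent hcard, hd.omega_R hcard]
  haveI := hd.centre.normal
  haveI := hd.inv.invPart_normal
  refine ⟨le_normalizer_of_normal, ?_, ρ.comp (Cfsg.pResidual p G).subtype,
    MonoidHom.mk' (fun u => Multiplicative.ofAdd (θ (u : G))) (fun u v =>
      congrArg Multiplicative.ofAdd (hd.nat.map_mul u u.2.2 v v.2.2)), hd.map_E hd.nat.surj, fun v => ?_, fun u => ?_,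
    fun e u => ?_⟩
  · exact le_inf (commutator_le_left _ _) (hd.derived_le_C.trans inf_le_left)
  · obtain ⟨z, hz, hzθ⟩ := hd.nat.onto v.toAdd
    obtain ⟨z0, z1, hz0f, hz1Q, hz1i, e, hH⟩ := hd.inv.decomp z
    obtain ⟨hz0, hz1⟩ := hH Z hz (hd.conj_mem hd.centre.normal hz)
    refine ⟨⟨z1, inverted_mem hz1Q hz1i, hz1⟩, congrArg Multiplicative.ofAdd (?_ : θ z1 = v.toAdd)⟩
    rw [← hzθ, e, hd.nat.map_mul _ hz0 _ hz1, (hd.nat.map_eq_zero z0 hz0).2 (hd.fixed_C hz0 hz0f), zero_add]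
  · constructor
    · intro h1
      have h2 := (hd.nat.map_eq_zero _ u.2.2).1 (congrArg Multiplicative.toAdd h1)
      rw [← hd.R_inf_cent]
      exact ⟨u.2.1, centralizer_le (le_top (a := Cfsg.pResidual p G)) h2.2⟩
    · intro h1
      exact congrArg Multiplicative.ofAdd ((hd.nat.map_eq_zero _ u.2.2).2 (hd.derived_le_C h1))
  · exact ⟨⟨(e : G) * u * (e : G)⁻¹, Subgroup.Normal.conj_mem inferInstance _ u.2.1 _,
      Subgroup.Normal.conj_mem inferInstance _ u.2.2 _⟩, rfl, hd.nat.equiv e u u.2.2⟩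

theorem Data.act_core (hcard : Nat.card ↥⁅U, U⁆ = p ^ n) :
    Cfsg.ActsAsSL2OnSection F (commutator (Matrix.SpecialLinearGroup (Fin 2) F)) (Cfsg.pResidual p G)
      (Rp p t) (Cfsg.omegaOneCenter p (Rp p t)) := by
  rw [hd.omega_R hcard]
  haveI := hd.inv.invPart_normal
  refine ⟨le_normalizer_of_normal, inf_le_left, ρ'.comp (Cfsg.pResidual p G).subtype,
    MonoidHom.mk' (fun u => Multiplicative.ofAdd (θ' (u : G))) (fun u v =>
      congrArg Multiplicative.ofAdd (hd.nat'.map_mul u (hd.R_le_U u.2) v (hd.R_le_U v.2))),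
    hd.map_E hd.nat'.surj, fun v => ?_, fun u => ?_, fun e u => ?_⟩
  · obtain ⟨w, hw, hwθ⟩ := hd.nat'.onto v.toAdd
    obtain ⟨d, r, hd2, -, hr, hrU, -, e⟩ := hd.U_decomp hw
    refine ⟨⟨r, hr⟩, congrArg Multiplicative.ofAdd (?_ : θ' r = v.toAdd)⟩
    rw [← hwθ, e, hd.nat'.map_mul _ (hd.U2U hd2) _ hrU, (hd.nat'.map_eq_zero d (hd.U2U hd2)).2 hd2, zero_add]
  · constructor
    · intro h1
      have h2 := (hd.nat'.map_eq_zero _ (hd.R_le_U u.2)).1 (congrArg Multiplicative.toAdd h1)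
      obtain ⟨d, r, hdf, hrQ, hri, e, hH⟩ := hd.inv.decomp (u : G)
      obtain ⟨hdR, -⟩ := hH (Rp p t) u.2 (hd.conj_mem hd.inv.invPart_normal u.2)
      obtain ⟨-, hr2⟩ := hH U2 h2 (hd.conj_mem hd.nat'.normB h2)
      refine ⟨u.2, ?_⟩
      rw [e]
      exact mul_mem (hd.derived_le_C (hd.inv.fixed_mem_derived hdR hdf)).1 (hd.inverted_Z hr2 hri)
    · intro h1
      exact congrArg Multiplicative.ofAdd ((hd.nat'.map_eq_zero _ (hd.R_le_U u.2)).2 (hd.two.hZU h1.2))
  · exact ⟨⟨(e : G) * u * (e : G)⁻¹, Subgroup.Normal.conj_mem inferInstance _ u.2 _⟩, rfl,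
      hd.nat'.equiv e u (hd.R_le_U u.2)⟩

include hcard hYS hYQ hYc hYD

theorem Data.centre_E :
    Cfsg.pResidual p G ⊓ centralizer (Cfsg.pResidual p G : Set G) = ⁅Rp p t, Rp p t⁆ := by
  rw [← hd.R_inf_cent]
  refine le_antisymm (fun x hx => ⟨?_, hx.2⟩) (fun x hx => ⟨hd.R_le_E hx.1, hx.2⟩)
  rw [← hd.E_inf_Q hYS hYQ hYc hYD]
  refine ⟨hx.1, hd.ker'.le ((hd.nat'.ker x).2 fun u hu => ?_)⟩
  obtain ⟨d, r, hd2, -, hr, -, -, rfl⟩ := hd.U_decomp hu
  have h1 : Commute x r := (mem_centralizer_iff.1 hx.2 r (hd.R_le_E hr)).symm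
  have h2 : ⁅x, d⁆ ∈ U2 := by
    rw [commutatorElement_def]; exact U2.mul_mem (hd.nat'.normB.conj_mem _ hd2 x) (U2.inv_mem hd2)
  have e : ⁅x, d * r⁆ = ⁅x, d⁆ * (d * ⁅x, r⁆ * d⁻¹) := by simp only [commutatorElement_def]; group
  rwa [e, commutatorElement_eq_one_iff_commute.2 h1, mul_one, mul_inv_cancel, mul_one]

include hYsq

/-- All fields. -/
theorem Data.rankData : H34.Push.RankData p (S : Subgroup G) F n := by
  classical
  haveI := hd.charP
  haveI hRn := hd.inv.invPart_normal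
  haveI := hd.inv.normal
  haveI := hd.centre.normal
  have hcore := hd.core_E hYS hYQ hYc hYD
  refine ⟨⟨ρ, hd.nat.surj, hd.ker⟩, hd.comm_ES, ?_, ?_, hd.frattini_Q, ?_, ?_, ?_, Or.inr ⟨hd.hp3, ?_, ?_, ?_, ?_, ?_, ?_⟩⟩
  · rw [hcore]; exact hd.comm_QE
  · rw [hcore]; exact hd.comm_RE
  · rw [hcore, hd.omega_R hcard]
    exact ((commutator_mono inf_le_right le_rfl).trans (commutator_le_left Z _)).trans hd.centre_le_ncl
  · have hk : Cfsg.pCore p ↥(Cfsg.pResidual p G) = (ρ.comp (Cfsg.pResidual p G).subtype).ker := by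
      refine map_injective (Cfsg.pResidual p G).subtype_injective ?_
      show Cfsg.pCoreOf p (Cfsg.pResidual p G) = _
      rw [hcore, ← MonoidHom.comap_ker, hd.ker, ← subgroupOf, subgroupOf_map_subtype, inf_comm,
        hd.E_inf_Q hYS hYQ hYc hYD]
    haveI : (Cfsg.pCore p ↥(Cfsg.pResidual p G)).Normal := H19.pCore_normal p _
    exact ⟨(QuotientGroup.quotientMulEquivOfEq hk).trans ((QuotientGroup.quotientKerEquivRange _).trans
      (MulEquiv.subgroupCongr (hd.map_E hd.nat.surj)))⟩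
  · rw [hcore]; exact hd.act_centre hcard
  · rw [hcore]; exact hd.act_core hcard
  · rw [hcore, hd.omega_R_cent hcard]
  · rw [hcore, hd.omega_R_cent hcard, hd.frattini_R]
  · rw [hcore, hd.omega_R_cent hcard, hd.centre_E hcard hYS hYQ hYc hYD]
  · rw [hd.centre_E hcard hYS hYQ hYc hYD, ← hd.derived_eq, hcard, hd.hp3]
  · intro b hb hbW hle
    rw [hd.centre_E hcard hYS hYQ hYc hYD] at hle
    rw [hcore] at hle hbW
    have hbQ : b ∉ Cfsg.pCore p G := fun hh => hbW (by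
      rw [hd.omega_R hcard]
      exact centralizer_le (fun z hz => hz.2) (hd.centre.cent hh))
    obtain ⟨y, hy, k0, hk0, rfl⟩ := mem_sup_of_normal_right.1 (hYQ.symm ▸ hb : b ∈ Y ⊔ Cfsg.pCore p G)
    have hyQ : y ∉ Cfsg.pCore p G := fun hh => hbQ (mul_mem hh hk0)
    obtain ⟨x, hx, hne⟩ := hYsq y hy hyQ
    obtain ⟨d, r, hd2, hdf, hr, hrU, -, rfl⟩ := hd.U_decomp hx
    have hyr : ⁅y, r⁆ ∈ Rp p t := by
      rw [commutatorElement_def]; exact mul_mem (hRn.conj_mem _ hr y) (inv_mem hr)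
    have hyd : ⁅y, d⁆ ∈ Z ⊓ centralizer ((⊤ : Subgroup G) : Set G) := by
      rw [← commutatorElement_inv]; exact inv_mem (hd.fixed_comm hd2 hdf y)
    have e1 : ⁅y, d * r⁆ = ⁅y, d⁆ * ⁅y, r⁆ := by
      have h1 := hd.D_comm_R ⟨hd.UQ (hd.U2U hd2), (hd.inv.fixed_iff d).2 hdf⟩ hyr
      calc ⁅y, d * r⁆ = ⁅y, d⁆ * (d * ⁅y, r⁆ * d⁻¹) := by simp only [commutatorElement_def]; group
        _ = _ := by rw [h1, mul_inv_cancel_right]
    have e2 : ⁅y, ⁅y, d⁆ * ⁅y, r⁆⁆ = ⁅y, ⁅y, r⁆⁆ := by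
      set z := ⁅y, d⁆
      set w := ⁅y, r⁆
      simp only [commutatorElement_def]
      rw [show y * (z * w) * y⁻¹ * (z * w)⁻¹ = (y * z) * (w * y⁻¹ * w⁻¹) * z⁻¹ by group, hd.C_comm hyd y,
        show z * y * (w * y⁻¹ * w⁻¹) * z⁻¹ = z * (y * w * y⁻¹ * w⁻¹) * z⁻¹ by group, ← hd.C_comm hyd,
        mul_inv_cancel_right]
    rw [e1, e2] at hne
    apply hne
    have hsq := hd.two.square_pow (hYS hy) hrU U1.one_mem hk0 1 1
    simp only [pow_one, mul_one, one_mul] at hsq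
    have h1 : ⁅y * k0, ⁅y * k0, r⁆⁆ ∈ ⁅⁅Rp p t, zpowers (y * k0)⁆, zpowers (y * k0)⁆ := by
      rw [commutator_comm ⁅Rp p t, zpowers (y * k0)⁆, commutator_comm (Rp p t)]
      exact commutator_mem_commutator (mem_zpowers _) (commutator_mem_commutator (mem_zpowers _) hr)
    have h2 := (hd.derived_le_C (hle h1)).2
    have h3 := (centralizer ((⊤ : Subgroup G) : Set G)).mul_mem h2
      ((centralizer ((⊤ : Subgroup G) : Set G)).inv_mem hsq)
    rwa [mul_inv_rev, inv_inv, mul_inv_cancel_left] at h3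

end Cfsg.Agent.H35.PushExceptional
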