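import Cfsg.Agent.H35.PushExceptional.Key
import Cfsg.Agent.H35.PushExceptional.Fields
import Cfsg.Agent.H72.Push.One
import Cfsg.Agent.H39.Push.Driver
import Mathlib

/-!
Rank one pushing up, the branch with commuting neighbours and a critical vertex at distance two: the exceptional
shape in characteristic three.
-/

set_option autoImplicit false
set_option linter.style.haveILetI false
set_option linter.unusedSectionVars false

open scoped commutatorElement

namespace Cfsg.Agent.H35.PushExceptional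

open Cfsg.Agent Subgroup H72 H72.RankOne H72.Push H75.SL2Natural

variable {G : Type*} [Group G] [Finite G] {p : ℕ} [Fact p.Prime] {S : Sylow p G} {K : Subgroup G} {F : Type}
  [Field F] [Fintype F] {n : ℕ} {Z : Subgroup G} {X : Type*} [Group X] [Finite X] {A : Subgroup X} {ι : G →* X}

/-- A lift in the residual of the central involution of `SL₂`. -/
theorem exists_lift [CharP F p] (hp : p ≠ 2) {ρ : G →* Matrix.SpecialLinearGroup (Fin 2) F}
    (hρ : Function.Surjective ρ) (hker : ρ.ker = Cfsg.pCore p G) :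
    ∃ t ∈ Cfsg.pResidual p G, (orderOf t).Coprime p ∧ ρ t = -1 ∧ Inv p (Cfsg.pCore p G) t := by
  have hprime : p.Prime := Fact.out
  have hneg2 : (-1 : Matrix.SpecialLinearGroup (Fin 2) F) * -1 = 1 := Subtype.ext (by simp)
  have h1 : (orderOf (-1 : Matrix.SpecialLinearGroup (Fin 2) F)).Coprime p := by
    refine Nat.Coprime.coprime_dvd_left (m := orderOf (-1 : Matrix.SpecialLinearGroup (Fin 2) F)) (k := 2) ?_
      ((Nat.coprime_primes Nat.prime_two hprime).2 (Ne.symm hp))
    exact orderOf_dvd_of_pow_eq_one (by rw [sq, hneg2])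
  obtain ⟨e, he, heρ⟩ : (-1 : Matrix.SpecialLinearGroup (Fin 2) F) ∈ (Cfsg.pResidual p G).map ρ := by
    rw [H22.map_pResidual_of_surjective ρ hρ]
    exact H22.mem_pResidual_of_coprime h1
  set j := (orderOf e).factorization p
  have hodd : Odd (p ^ j) := (hprime.eq_two_or_odd'.resolve_left hp).pow
  have htρ : ρ (e ^ p ^ j) = -1 := by
    obtain ⟨m, hm⟩ := hodd
    rw [map_pow, heρ, hm, pow_succ, pow_mul, sq, hneg2, one_pow, one_mul]
  have htp : (orderOf (e ^ p ^ j)).Coprime p := by
    rw [orderOf_pow, Nat.gcd_eq_right (Nat.ordProj_dvd _ _)]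
    exact (Nat.coprime_ordCompl hprime (orderOf_pos e).ne').symm
  refine ⟨e ^ p ^ j, pow_mem he _, htp, htρ, H19.pCore_normal p G, H35.isPGroup_pCore p G, hprime, hp, ?_,
    fun g => ?_⟩
  · set t := e ^ p ^ j
    have hmem : t * t ∈ Cfsg.pCore p G := hker.le (by rw [MonoidHom.mem_ker, map_mul, htρ, hneg2])
    obtain ⟨i, hi⟩ := H35.isPGroup_pCore p G ⟨_, hmem⟩
    have h2 : (t * t) ^ orderOf t = 1 := by rw [(Commute.refl t).mul_pow, pow_orderOf_eq_one, one_mul]
    have h3 := pow_gcd_eq_one.2 ⟨h2, congrArg Subtype.val hi⟩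
    rwa [(htp.pow_right i).gcd_eq_one, pow_one] at h3
  · refine hker.le ?_
    rw [MonoidHom.mem_ker, map_commutatorElement, htρ, commutatorElement_eq_one_iff_commute]
    exact Subtype.ext (by simp)

/-- The exceptional branch of rank one pushing up. -/
theorem rankData_of_crit (h : Setup S K F n) (hι : Function.Injective ι) (hc : CentreFacts S Z (p ^ n))
    (hs : Sit X p ι.range ((S : Subgroup G).map ι) ((Cfsg.pCore p G).map ι) (Z.map ι) A (p ^ n))
    (hNA : ι.range ⊓ normalizer (((S : Subgroup G).map ι : Subgroup X) : Set X) ≤ A)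
    (hN : Near ι.range A (Z.map ι) 2) {g : X} (hg : g ∈ dist ι.range A 2) (hgc : ¬ Com (Z.map ι) g) :
    H34.Push.RankData p (S : Subgroup G) F n := by
  classical
  haveI := h.normalK
  haveI := hc.normal
  obtain ⟨f, hfs, hf, hfS⟩ := Setup.exists_hom h
  obtain ⟨c, hfc⟩ := hfs (PSL.weyl F)
  obtain ⟨ρ, θ, hn⟩ := (hs.centre_sect hι hc).natural h hfs hf hfS hfc
  haveI hQn : (Cfsg.pCore p G).Normal := H19.pCore_normal p G
  have hQ : Triv S ρ := fun k hk => (hn.ker k).2 fun a ha => by
    rw [commutatorElement_eq_one_iff_commute.2 (mem_centralizer_iff.1 (hc.cent hk) a ha).symm]; exact one_mem _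
  obtain ⟨a, b, b', hP⟩ := hs.exists_pair hN hg hgc
  have hT := hs.toTwo hι hNA hN hP
  have hT' := hs.toTwo hι hNA hN hP.symm
  have hsq : ∃ x ∈ (nbr ι.range A (Z.map ι)).comap ι, ∃ y ∈ (S : Subgroup G), y ^ p = 1 ∧ x ^ p = 1 ∧
      ⁅y, ⁅y, x⁆⁆ ∉ centralizer ((⊤ : Subgroup G) : Set G) := by
    obtain ⟨x, hx, y, hy, hyp, hxp, hne⟩ := hs.nbr_square hN hP
    obtain ⟨x', rfl⟩ := ((hs.nbr_le hN).trans (map_le_range _ _)) hx
    obtain ⟨y', hy', rfl⟩ := hy
    refine ⟨x', hx, y', hy', hι (by rw [map_pow, hyp, map_one]), hι (by rw [map_pow, hxp, map_one]),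
      fun hcc => hne (mem_centralizer_iff.2 ?_)⟩
    rintro _ ⟨k, rfl⟩
    rw [← map_commutatorElement, ← map_commutatorElement, ← map_mul, ← map_mul,
      mem_centralizer_iff.1 hcc k (mem_top k)]
  obtain ⟨hp3, ρ', θ', hn', hker, hU2, hcen⟩ := hT.main h hc hn hfs hf hfS hfc hsq
  obtain ⟨-, ρ'', θ'', hn'', hker2, hU2', -⟩ := hT'.main h hc hn hfs hf hfS hfc hsq
  haveI hUn := hT.sect.normA
  -- elements of order prime to `p` map `O_p` into the neighbourhood
  have hU : nbr ι.range A (Z.map ι) ≤ ι.range := (hs.nbr_le hN).trans (map_le_range _ _)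
  have hr2 : nbr2 ι.range A (Z.map ι) a⁻¹ b' ≤ ι.range := (inf_le_left.trans inf_le_left).trans hU
  have h2X : nbr2 ι.range A (Z.map ι) a⁻¹ b' ≤ edge A (Z.map ι) := by
    rw [← map_comap_eq_self hr2, ← map_comap_eq_self (edge_le_nbr.trans hU : edge A (Z.map ι) ≤ ι.range)]
    exact map_mono hU2'
  obtain ⟨Y, hYS, hYQ, -, hYc⟩ := hs.cover_edge hN hP h2X
  have hY0S : Y.comap ι ≤ (S : Subgroup G) := by
    rw [← comap_map_eq_self_of_injective hι (S : Subgroup G)]; exact comap_mono hYS
  have hY0Q : Y.comap ι ⊔ Cfsg.pCore p G = (S : Subgroup G) := by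
    apply map_injective hι
    rw [Subgroup.map_sup, map_comap_eq_self (hYS.trans (map_le_range _ _)), hYQ]
  have hL := act_normalClosure (Y := Y.comap ι) hQn hT.sect.normA fun u hu y hy => by
    show ι ⁅u, y⁆ ∈ nbr ι.range A (Z.map ι)
    rw [map_commutatorElement]
    exact edge_le_nbr (hYc _ (mem_map_of_mem ι (H35.pCore_le_sylow S hu)) _ hy)
  have hcover : ∀ x : G, (orderOf x).Coprime p → ∀ u ∈ Cfsg.pCore p G,
      ⁅u, x⁆ ∈ (nbr ι.range A (Z.map ι)).comap ι := fun x hx u hu => by
    have hxL : x ∈ normalClosure ((Y.comap ι : Subgroup G) : Set G) :=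
      coprime_mem_supplement (H35.isPGroup_pCore p G) (Setup.cover_sup h hY0S hY0Q) hx
    exact hL (commutator_mem_commutator hu hxL)
  -- the kernel is the core
  have hkQ : ρ.ker = Cfsg.pCore p G := by
    refine Setup.eq_pCore h hQ (Setup.ker_sup_ne hn.surj hn.upper) fun x hx hco => ?_
    have hxU : x ∈ centralizer (((nbr ι.range A (Z.map ι)).comap ι : Subgroup G) : Set G) := by
      refine coprime_mem_centralizer_of_series' ((H35.isPGroup_pCore p G).to_le hT.hUQ)
        (by rw [normalizer_eq_top_iff.2 hT.sect.normA]; exact mem_top x) hco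
        (N := Z ⊓ centralizer ((⊤ : Subgroup G) : Set G)) (hcen x hx) ?_
      exact mem_centralizer_iff.2 fun z hz => (mem_centralizer_iff.1 hz.2 x (mem_top x)).symm
    exact Setup.coprime_eq_one h hco (N := (nbr ι.range A (Z.map ι)).comap ι) (fun u hu => by
      rw [← commutatorElement_inv]; exact inv_mem (hcover x hco u hu)) hxU
  haveI : CharP F p := H72.charP_of_card h.card
  obtain ⟨t, htE, htp, htρ, hinv⟩ := exists_lift (by omega) hn.surj hkQ
  -- the involution is central and nontrivial in the other section too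
  have htρ' : (ρ' t).1 = -1 := by
    have hc' : ρ' t ∈ Subgroup.center (Matrix.SpecialLinearGroup (Fin 2) F) := by
      refine Subgroup.mem_center_iff.2 fun s => ?_
      obtain ⟨k, rfl⟩ := hn'.surj s
      have h1 : ρ' ⁅k, t⁆ = 1 := MonoidHom.mem_ker.1 (hker ▸ hkQ.ge (hinv.comm k))
      rw [map_commutatorElement] at h1
      exact (commutatorElement_eq_one_iff_commute.1 h1).eq
    rcases H6.mem_center_sl2.1 hc' with e | e
    · exfalso
      have h1 : ρ t = 1 := MonoidHom.mem_ker.1 (hker.le (MonoidHom.mem_ker.2 e))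
      rw [htρ] at h1
      have h2 := congrArg (fun M : Matrix.SpecialLinearGroup (Fin 2) F => (M : Matrix (Fin 2) (Fin 2) F) 0 0) h1
      simp at h2
      have h3 : ((2 : ℕ) : F) = 0 := by push_cast; linear_combination -h2
      have h4 := (Nat.prime_dvd_prime_iff_eq (Fact.out : p.Prime) Nat.prime_two).1
        ((CharP.cast_eq_zero_iff F p 2).1 h3)
      omega
    · rw [e]; simp
  have hd : PairData S K F n Z c ρ θ ρ' θ' t ι A a b :=
    ⟨h, hp3, hc, hT, hn, hn', hkQ, hker.trans hkQ, hU2, hcover, htE, htp, by rw [htρ]; simp, htρ', hinv⟩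
  obtain ⟨Y1, h1, h2, h3, h4, h5⟩ := exists_cover hs hι hN hP hd hU2' hn'' (hker2.trans hkQ)
  exact hd.rankData (card_derived hs hι hN hP hd hU2') h1 h2 h3 h4 h5

/-- Rank one pushing up: both branches. -/
theorem rankData (h : Setup S K F n) (hnc : NoChar (S : Subgroup G)) :
    H34.Push.RankData p (S : Subgroup G) F n := by
  obtain ⟨A, Z, c, ρ, θ, hc, hn, hs, hA⟩ := H39.Push.exists_regular_sit h hnc
  rcases hs.exists_crit with ⟨a, ha, hac⟩ | ⟨hN, g, hg, hgc⟩
  · exact H39.Push.rankData_one h hnc hc hn hs H59.PushUp.lreg_injective ha hac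
  · exact rankData_of_crit h H59.PushUp.lreg_injective hc hs (inf_le_right.trans hA.ge) hN hg hgc

end Cfsg.Agent.H35.PushExceptional
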