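import Cfsg.Agent.H35.PushExceptional.Layers
import Mathlib

/-!
Rank one pushing up with commuting neighbours: what the critical pair says about the fixed part.
-/

set_option autoImplicit false
set_option linter.style.haveILetI false
set_option linter.unusedSectionVars false

open scoped commutatorElement

namespace Cfsg.Agent.H35.PushExceptional

open Cfsg.Agent Subgroup H72.RankOne H72.Push H75.SL2Natural

section ambient

variable {X : Type*} [Group X] {p : ℕ} {M S Q Z A : Subgroup X} {q : ℕ} {a b b' : X}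

/-- Commutators of a join, when the target is central in it. -/
theorem comm_sup_mem {A B T : Subgroup X} {y : X} (hc : ∀ z ∈ T, ∀ x ∈ A ⊔ B, x * z * x⁻¹ = z)
    (hA : ∀ x ∈ A, ⁅x, y⁆ ∈ T) (hB : ∀ x ∈ B, ⁅x, y⁆ ∈ T) {x : X} (hx : x ∈ A ⊔ B) : ⁅x, y⁆ ∈ T := by
  let D : Subgroup X :=
    { carrier := {x | x ∈ A ⊔ B ∧ ⁅x, y⁆ ∈ T}
      one_mem' := ⟨one_mem _, by rw [commutatorElement_one_left]; exact one_mem _⟩
      mul_mem' := fun {u v} hu hv => ⟨mul_mem hu.1 hv.1, by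
        have e : ⁅u * v, y⁆ = u * ⁅v, y⁆ * u⁻¹ * ⁅u, y⁆ := by simp only [commutatorElement_def]; group
        rw [e, hc _ hv.2 u hu.1]
        exact mul_mem hv.2 hu.2⟩
      inv_mem' := fun {u} hu => ⟨inv_mem hu.1, by
        have e : ⁅u⁻¹, y⁆ = u⁻¹ * ⁅u, y⁆⁻¹ * u⁻¹⁻¹ := by simp only [commutatorElement_def]; group
        rw [e, hc _ (inv_mem hu.2) _ (inv_mem hu.1)]
        exact inv_mem hu.2⟩ }
  exact ((sup_le (fun x hx => ⟨mem_sup_left hx, hA x hx⟩) fun x hx => ⟨mem_sup_right hx, hB x hx⟩ :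
    A ⊔ B ≤ D) hx).2

variable [Finite X]

/-- The derived group of the neighbourhood is a conjugate of `[Z, S]`. -/
theorem derived_nbr (h : Sit X p M S Q Z A q) (hN : Near M A Z 2) (hP : Pair M S Z A a b b')
    (h2 : nbr2 M A Z a b ≤ edge A Z) : ⁅nbr M A Z, nbr M A Z⁆ = cj a ⁅Z, S⁆ := by
  set W := cj a Z with hW
  set V := cj (b * a) Z with hV
  have hba : b * a ∈ dist M A 1 := dist_left hP.hc.1 (dist_of_A hP.ha)
  have hT : cj a ⁅Z, S⁆ = ⁅W, V⁆ := by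
    rw [h.comm_cover (h.first_cover hN (A.inv_mem hP.ha) hba (fun hh => hP.bad (bad_iff.2 hh))),
      cj_commutator, cj_cj, mul_inv_cancel_left]
  have hWU : W ≤ nbr M A Z := le_nbr (dist_of_A hP.ha)
  have hVU : V ≤ nbr M A Z := le_nbr hba
  have hC : ⁅nbr M A Z, nbr M A Z⁆ ≤ Z ⊓ centralizer (M : Set X) :=
    (commutator_mono le_rfl (h.nbr_le hN)).trans (h.comm_nbr_Q hN hP)
  refine le_antisymm ?_ (hT.le.trans (commutator_mono hWU hVU))
  have hcen : ∀ z ∈ cj a ⁅Z, S⁆, ∀ x ∈ nbr M A Z, x * z * x⁻¹ = z := fun z hz x hx => by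
    rw [mem_centralizer_iff.1 (hC (commutator_mono hWU hVU (hT ▸ hz))).2 x
      (h.hSM (h.hQS (h.nbr_le hN hx))), mul_inv_cancel_right]
  obtain ⟨-, -, e3, e4⟩ := h.nbr_sizes hN hP
  have hdec : V ⊔ (W ⊔ nbr2 M A Z a b) = nbr M A Z := by rw [e3, e4]
  set T := cj a ⁅Z, S⁆
  have hone : ∀ {x y : X}, x * y = y * x → ⁅x, y⁆ ∈ T := fun {x y} he => by
    rw [commutatorElement_eq_one_iff_commute.2 he]; exact one_mem _
  have hgen : ∀ {x : X}, x ∈ nbr M A Z → ∀ {y : X}, (y ∈ V ∨ y ∈ W ∨ y ∈ nbr2 M A Z a b) → ⁅x, y⁆ ∈ T := by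
    intro x hx y hy
    refine comm_sup_mem (A := V) (B := W ⊔ nbr2 M A Z a b) (fun z hz u hu => hcen z hz u (hdec ▸ hu))
      ?_ ?_ (hdec.symm ▸ hx)
    · intro v hv
      rcases hy with hy | hy | hy
      · obtain ⟨v', hv', rfl⟩ := hv
        obtain ⟨y', hy', rfl⟩ := hy
        exact hone (by rw [← map_mul, ← map_mul, h.zcomm v' hv' y' hy'])
      · rw [← commutatorElement_inv, hT]
        exact inv_mem (commutator_mem_commutator hy hv)
      · exact hone (mem_centralizer_iff.1 hy.2 v hv)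
    · intro w hw
      refine comm_sup_mem (A := W) (B := nbr2 M A Z a b)
        (fun z hz u hu => hcen z hz u (hdec ▸ mem_sup_right hu)) ?_ ?_ hw
      · intro w hw
        rcases hy with hy | hy | hy
        · rw [hT]; exact commutator_mem_commutator hw hy
        · obtain ⟨w', hw', rfl⟩ := hw
          obtain ⟨y', hy', rfl⟩ := hy
          exact hone (by rw [← map_mul, ← map_mul, h.zcomm w' hw' y' hy'])
        · exact hone (mem_centralizer_iff.1 hy.1.2 w hw)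
      · intro u hu
        rcases hy with hy | hy | hy
        · exact hone (mem_centralizer_iff.1 hu.2 y hy).symm
        · exact hone (mem_centralizer_iff.1 hu.1.2 y hy).symm
        · exact hone (mem_centralizer_iff.1 (h.edge_comm hN (h2 hy)) u (h2 hu))
  refine commutator_le.2 fun x hx y hy => ?_
  rw [← commutatorElement_inv]
  refine inv_mem (comm_sup_mem (A := V) (B := W ⊔ nbr2 M A Z a b) (fun z hz u hu => hcen z hz u (hdec ▸ hu))
    (fun v hv => ?_) (fun w hw => ?_) (hdec.symm ▸ hy))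
  · rw [← commutatorElement_inv]; exact inv_mem (hgen hx (Or.inl hv))
  · refine comm_sup_mem (A := W) (B := nbr2 M A Z a b)
      (fun z hz u hu => hcen z hz u (hdec ▸ mem_sup_right hu)) (fun v hv => ?_) (fun v hv => ?_) hw
    · rw [← commutatorElement_inv]; exact inv_mem (hgen hx (Or.inr (Or.inl hv)))
    · rw [← commutatorElement_inv]; exact inv_mem (hgen hx (Or.inr (Or.inr hv)))

end ambient

variable {G : Type*} [Group G] [Finite G] {p : ℕ} [Fact p.Prime] {S : Sylow p G} {K : Subgroup G} {F : Type}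
  [Field F] [Fintype F] {n : ℕ} {Z : Subgroup G} {c : G} {ρ : G →* Matrix.SpecialLinearGroup (Fin 2) F}
  {θ : G → Fin 2 → F} {ρ' : G →* Matrix.SpecialLinearGroup (Fin 2) F} {θ' : G → Fin 2 → F} {t : G}
  {ρ'' : G →* Matrix.SpecialLinearGroup (Fin 2) F} {θ'' : G → Fin 2 → F}
  {X : Type*} [Group X] [Finite X] {A : Subgroup X} {ι : G →* X} {a b b' : X}

/-- The edge reading of the data: `U`, `Yh`, `U1`, `U2` come from a pair. -/
abbrev PairData (S : Sylow p G) (K : Subgroup G) (F : Type) [Field F] [Fintype F] (n : ℕ) (Z : Subgroup G) (c : G)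
    (ρ : G →* Matrix.SpecialLinearGroup (Fin 2) F) (θ : G → Fin 2 → F)
    (ρ' : G →* Matrix.SpecialLinearGroup (Fin 2) F) (θ' : G → Fin 2 → F) (t : G) (ι : G →* X) (A : Subgroup X)
    (a b : X) : Prop :=
  Data S K F n Z ((nbr ι.range A (Z.map ι)).comap ι) ((edge A (Z.map ι)).comap ι)
    ((nbr1 ι.range A (Z.map ι) a).comap ι) ((nbr2 ι.range A (Z.map ι) a b).comap ι) c ρ θ ρ' θ' t

variable (hs : Sit X p ι.range ((S : Subgroup G).map ι) ((Cfsg.pCore p G).map ι) (Z.map ι) A (p ^ n))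
  (hι : Function.Injective ι) (hN : Near ι.range A (Z.map ι) 2)
  (hP : Pair ι.range ((S : Subgroup G).map ι) (Z.map ι) A a b b')
  (hd : PairData S K F n Z c ρ θ ρ' θ' t ι A a b)
  (h2' : (nbr2 ι.range A (Z.map ι) a⁻¹ b').comap ι ≤ (edge A (Z.map ι)).comap ι)

include hs hι hN hP

theorem range_le {H : Subgroup X} (hH : H ≤ nbr ι.range A (Z.map ι)) : H ≤ ι.range :=
  hH.trans ((hs.nbr_le hN).trans (map_le_range _ _))

include hd h2'

/-- Both conjugates of `[Z, S]` under the pair are the derived group of the neighbourhood. -/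
theorem conj_L :
    cj a ⁅Z.map ι, (S : Subgroup G).map ι⁆ = ⁅nbr ι.range A (Z.map ι), nbr ι.range A (Z.map ι)⁆ ∧
    cj a⁻¹ ⁅Z.map ι, (S : Subgroup G).map ι⁆ = ⁅nbr ι.range A (Z.map ι), nbr ι.range A (Z.map ι)⁆ := by
  have hU := range_le hs hι hN hP (le_refl (nbr ι.range A (Z.map ι)))
  have hE := range_le hs hι hN hP (edge_le_nbr : edge A (Z.map ι) ≤ _)
  have h1 : nbr2 ι.range A (Z.map ι) a b ≤ edge A (Z.map ι) := by
    have hr : nbr2 ι.range A (Z.map ι) a b ≤ ι.range := (inf_le_left.trans inf_le_left).trans hU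
    rw [← map_comap_eq_self hr,
      ← map_comap_eq_self hE]
    exact map_mono hd.hU2
  have h2 : nbr2 ι.range A (Z.map ι) a⁻¹ b' ≤ edge A (Z.map ι) := by
    have hr : nbr2 ι.range A (Z.map ι) a⁻¹ b' ≤ ι.range := (inf_le_left.trans inf_le_left).trans hU
    rw [← map_comap_eq_self hr,
      ← map_comap_eq_self hE]
    exact map_mono h2'
  exact ⟨(derived_nbr hs hN hP h1).symm, (derived_nbr hs hN hP.symm h2).symm⟩

theorem conj_P :
    cj a ⁅nbr ι.range A (Z.map ι), nbr ι.range A (Z.map ι)⁆ = ⁅Z.map ι, (S : Subgroup G).map ι⁆ ∧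
    cj a⁻¹ ⁅nbr ι.range A (Z.map ι), nbr ι.range A (Z.map ι)⁆ = ⁅Z.map ι, (S : Subgroup G).map ι⁆ := by
  obtain ⟨h1, h2⟩ := conj_L hs hι hN hP hd h2'
  constructor
  · rw [← h2, cj_cj, mul_inv_cancel, cj_one]
  · rw [← h1, cj_cj, inv_mul_cancel, cj_one]

/-- A nontrivial element of `[Z, S]` does not centralise the group. -/
theorem comm_ZS_ncentral {g : G} (h1 : ι g ∈ ⁅Z.map ι, (S : Subgroup G).map ι⁆) (h2 : ι g ≠ 1) :
    g ∈ ⁅Z, (S : Subgroup G)⁆ ∧ g ∉ centralizer ((⊤ : Subgroup G) : Set G) := by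
  rw [← map_commutator, mem_map_iff_mem hι] at h1
  refine ⟨h1, fun hc => h2 ?_⟩
  have h3 : g ∈ (⊥ : Subgroup G) := hd.comm_ZS_inf ▸ ⟨h1, hc⟩
  rw [mem_bot.1 h3, map_one]

/-- The order of the derived group of the neighbourhood. -/
theorem card_derived :
    Nat.card ↥⁅(nbr ι.range A (Z.map ι)).comap ι, (nbr ι.range A (Z.map ι)).comap ι⁆ = p ^ n := by
  rw [← card_map_of_injective hι, map_commutator, map_comap_eq_self (range_le hs hι hN hP le_rfl),
    ← (conj_L hs hι hN hP hd h2').1, card_cj, ← map_commutator, card_map_of_injective hι, hd.card_comm_ZS]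

/-- The pair moves the fixed part into `O_p(G)`. -/
theorem key {k : G} (hk : k ∈ fixPart (Cfsg.pCore p G) t) : a⁻¹ * ι k * a ∈ (Cfsg.pCore p G).map ι := by
  classical
  set M := ι.range
  set Z' := Z.map ι
  have hQS : Cfsg.pCore p G ≤ (S : Subgroup G) := H35.pCore_le_sylow S
  obtain ⟨hc1, -⟩ := conj_L hs hι hN hP hd h2'
  obtain ⟨-, hc4⟩ := conj_P hs hι hN hP hd h2'
  have hPC : ⁅nbr M A Z', nbr M A Z'⁆ ≤ Z' ⊓ centralizer (M : Set X) :=
    (commutator_mono le_rfl (hs.nbr_le hN)).trans (hs.comm_nbr_Q hN hP)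
  have hA' : ∀ {x : X}, x ∈ (S : Subgroup G).map ι → a⁻¹ * x * a ∈ (S : Subgroup G).map ι := fun {x} hx =>
    (mem_normalizer_iff''.1 (hs.hA hP.ha) x).1 hx
  -- a noncommuting pair of neighbours
  obtain ⟨v, hv, hvc⟩ := SetLike.not_le_iff_exists.1 hP.bad
  obtain ⟨w, hw, hvw⟩ : ∃ w ∈ cj a Z', ⁅v, w⁆ ≠ 1 := by
    by_contra hh
    push Not at hh
    exact hvc (mem_centralizer_iff.2 fun w hw => (commutatorElement_eq_one_iff_commute.1 (hh w hw)).eq.symm)
  have hvU : v ∈ nbr M A Z' := le_nbr (dist_left hP.hc.1 (dist_of_A hP.ha)) hv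
  have hwE : w ∈ edge A Z' := le_edge hP.ha hw
  obtain ⟨v0, rfl⟩ := range_le hs hι hN hP le_rfl hvU
  obtain ⟨w0, rfl⟩ := range_le hs hι hN hP edge_le_nbr hwE
  -- only the inverted part of the second one matters
  obtain ⟨c0, r1, hc0f, hr1Q, hr1i, hw0, hH⟩ := hd.inv.decomp w0
  have htY : t * w0 * t ∈ (edge A Z').comap ι := by
    have := (mem_normalizer_iff.1 (hd.two.normYh hd.t_normalizer) w0).1 hwE
    rwa [hd.inv.inv_eq] at this
  obtain ⟨hc0Y, hr1Y⟩ := hH _ (show w0 ∈ (edge A Z').comap ι from hwE) htY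
  have hc0U2 : ι c0 ∈ nbr2 M A Z' a b := hd.fixed_U2 (hd.YhU hc0Y) hc0f
  have hr1U : ι r1 ∈ nbr M A Z' := hd.YhU hr1Y
  have hvr : ⁅ι v0, ι w0⁆ = ⁅ι v0, ι r1⁆ := by
    have h1 : ι v0 * ι c0 = ι c0 * ι v0 := mem_centralizer_iff.1 hc0U2.2 _ hv
    have h2 := (hPC (commutator_mem_commutator hvU hr1U)).2
    have e : ⁅ι v0, ι c0 * ι r1⁆ = ⁅ι v0, ι c0⁆ * (ι c0 * ⁅ι v0, ι r1⁆ * (ι c0)⁻¹) := by
      simp only [commutatorElement_def]; group
    rw [hw0, map_mul, e, commutatorElement_eq_one_iff_commute.2 h1, one_mul,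
      mem_centralizer_iff.1 h2 (ι c0) ⟨c0, rfl⟩, mul_inv_cancel_right]
  rw [hvr] at hvw
  -- move the pair by `a`
  have huE : a⁻¹ * ι r1 * a ∈ edge A Z' := (mem_normalizer_iff''.1 (edge_normal hP.ha) _).1 hr1Y
  obtain ⟨u, hu⟩ := range_le hs hι hN hP edge_le_nbr huE
  have huU1 : u ∈ (nbr1 M A Z' a).comap ι := hd.two.hYh (show ι u ∈ edge A Z' from hu ▸ huE)
  obtain ⟨s0, hs0, hs0'⟩ := hA' (hs.hQS (hs.nbr_le hN hvU))
  obtain ⟨e, he, he'⟩ := hA' (mem_map_of_mem ι (hQS hk.1))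
  rw [← he']
  refine mem_map_of_mem ι ?_
  have hsu : ι ⁅s0, u⁆ = a⁻¹ * ⁅ι v0, ι r1⁆ * a := by
    rw [map_commutatorElement, hu, hs0']; simp only [commutatorElement_def]; group
  obtain ⟨-, hsC⟩ := comm_ZS_ncentral hs hι hN hP hd h2' (g := ⁅s0, u⁆)
    (by
      rw [← hc4, hsu]
      exact mem_cj.2 (by simpa [mul_assoc] using commutator_mem_commutator hvU hr1U))
    (by
      rw [hsu]
      intro h1
      exact hvw (by simpa [mul_eq_one_iff_eq_inv, mul_assoc] using congrArg (fun x => a * x * a⁻¹) h1))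
  have heu : ⁅e, u⁆ = 1 := hι (by
    rw [map_commutatorElement, hu, he', map_one,
      show ⁅a⁻¹ * ι k * a, a⁻¹ * ι r1 * a⁆ = a⁻¹ * ι ⁅k, r1⁆ * a by
        rw [map_commutatorElement]; simp only [commutatorElement_def]; group,
      commutatorElement_eq_one_iff_commute.2
        (show Commute k r1 from hd.D_comm_R hk (inverted_mem hr1Q hr1i)), map_one]
    group)
  -- the standard edge modulo the centre
  set U1 := (nbr1 M A Z' a).comap ι
  set C := Z ⊓ centralizer ((⊤ : Subgroup G) : Set G)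
  let T : Subgroup G :=
    { carrier := {x | x ∈ U1 ∧ ∀ s ∈ (S : Subgroup G), ⁅x, s⁆ ∈ C}
      one_mem' := ⟨one_mem _, fun s _ => by rw [commutatorElement_one_left]; exact one_mem _⟩
      mul_mem' := fun {x y} hx hy => ⟨mul_mem hx.1 hy.1, fun s hs' => by
        have e : ⁅x * y, s⁆ = x * ⁅y, s⁆ * x⁻¹ * ⁅x, s⁆ := by simp only [commutatorElement_def]; group
        rw [e, hd.C_conj (hy.2 s hs')]
        exact mul_mem (hy.2 s hs') (hx.2 s hs')⟩
      inv_mem' := fun {x} hx => ⟨inv_mem hx.1, fun s hs' => by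
        have e : ⁅x⁻¹, s⁆ = x⁻¹ * ⁅x, s⁆⁻¹ * x⁻¹⁻¹ := by simp only [commutatorElement_def]; group
        rw [e, hd.C_conj (inv_mem (hx.2 s hs'))]
        exact inv_mem (hx.2 s hs')⟩ }
  haveI := hd.centre.normal
  have hU1le : U1 ≤ T ⊔ Z := by
    have hWT : cj a Z' ≤ (T ⊔ Z).map ι := fun x hx => by
      have hxE : x ∈ edge A Z' := le_edge hP.ha hx
      obtain ⟨x0, rfl⟩ := range_le hs hι hN hP edge_le_nbr hxE
      refine mem_map_of_mem ι (mem_sup_left ⟨hd.two.hYh hxE, fun s hs' => ?_⟩)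
      have h1 : ι ⁅x0, s⁆ ∈ ⁅nbr M A Z', nbr M A Z'⁆ := by
        rw [← hc1, cj_commutator, hs.cjA hP.ha, map_commutatorElement]
        exact commutator_mem_commutator hx (mem_map_of_mem ι hs')
      refine ⟨(mem_map_iff_mem hι).1 (hPC h1).1, mem_centralizer_iff.2 fun g _ => hι ?_⟩
      rw [map_mul, map_mul]
      exact mem_centralizer_iff.1 (hPC h1).2 _ ⟨g, rfl⟩
    have hU2T : nbr2 M A Z' a b ≤ (T ⊔ Z).map ι := fun x hx => by
      obtain ⟨x0, rfl⟩ := range_le hs hι hN hP (inf_le_left.trans inf_le_left) hx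
      refine mem_map_of_mem ι ?_
      obtain ⟨d, r, hdf, hrQ, hri, e, hH2⟩ := hd.inv.decomp x0
      obtain ⟨hd2, hr2⟩ := hH2 _ (show x0 ∈ (nbr2 M A Z' a b).comap ι from hx)
        (hd.conj_mem hd.nat'.normB hx)
      rw [e]
      exact mul_mem (mem_sup_left ⟨hd.two.sect.hBL hd2, fun s _ => hd.fixed_comm hd2 hdf s⟩)
        (mem_sup_right (hd.inverted_Z hr2 hri))
    intro x hx
    have h1 : ι x ∈ (T ⊔ Z).map ι := by
      refine sup_le hWT hU2T ?_
      rw [(hs.nbr_sizes hN hP).2.2.1]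
      exact hx
    exact (mem_map_iff_mem hι).1 h1
  obtain ⟨x, hx, z, hz, hxz⟩ := mem_sup_of_normal_right.1 (hU1le huU1)
  by_contra heQ
  have hcz : ∀ {s : G}, s ∈ (S : Subgroup G) → ⁅s, u⁆ = ⁅s, x⁆ * ⁅s, z⁆ := fun {s} _ => by
    have hszZ : ⁅s, z⁆ ∈ Z := by
      rw [commutatorElement_def]; exact Z.mul_mem (hd.centre.normal.conj_mem _ hz s) (Z.inv_mem hz)
    have h1 : x * ⁅s, z⁆ = ⁅s, z⁆ * x :=
      (mem_centralizer_iff.1 (hd.centre.cent (hd.UQ (hd.U1U hx.1))) _ hszZ).symm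
    calc ⁅s, u⁆ = ⁅s, x⁆ * (x * ⁅s, z⁆ * x⁻¹) := by rw [← hxz]; simp only [commutatorElement_def]; group
      _ = _ := by rw [h1, mul_inv_cancel_right]
  have hxs : ∀ {s : G}, s ∈ (S : Subgroup G) → ⁅s, x⁆ ∈ C := fun {s} hs' => by
    rw [← commutatorElement_inv]; exact inv_mem (hx.2 s hs')
  have hez : ⁅e, z⁆ ∈ C := by
    have h1 := hcz he
    rw [heu] at h1
    rw [show ⁅e, z⁆ = ⁅e, x⁆⁻¹ from eq_inv_of_mul_eq_one_right h1.symm]
    exact inv_mem (hxs he)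
  have hzc : ι z ∈ centralizer (((S : Subgroup G).map ι : Subgroup X) : Set X) := by
    refine (hs.elation (mem_map_of_mem ι he) (mem_map_of_mem ι hz)).2 (fun hh => heQ ((mem_map_iff_mem hι).1 hh)) ?_
    rw [← map_commutatorElement, mem_centralizer_iff]
    rintro _ ⟨g, rfl⟩
    rw [← map_mul, ← map_mul, mem_centralizer_iff.1 hez.2 g (mem_top g)]
  apply hsC
  have h0 : ⁅s0, z⁆ = 1 := commutatorElement_eq_one_iff_commute.2 (hι (by
    rw [map_mul, map_mul]; exact mem_centralizer_iff.1 hzc _ (mem_map_of_mem ι hs0)))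
  rw [hcz hs0, h0, mul_one]
  exact (hxs hs0).2

/-- A cover of `S` over `O_p(G)`: abelian, commuting with the fixed part modulo the inverted part, and acting
nowhere quadratically. -/
theorem exists_cover
    (hn'' : NatSect (S : Subgroup G) ((nbr ι.range A (Z.map ι)).comap ι)
      ((nbr2 ι.range A (Z.map ι) a⁻¹ b').comap ι) ((nbr1 ι.range A (Z.map ι) a⁻¹).comap ι) c ρ'' θ'')
    (hk'' : ρ''.ker = Cfsg.pCore p G) :
    ∃ Y : Subgroup G, Y ≤ (S : Subgroup G) ∧ Y ⊔ Cfsg.pCore p G = (S : Subgroup G) ∧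
      (∀ x ∈ Y, ∀ y ∈ Y, x * y = y * x) ∧
      (∀ k ∈ fixPart (Cfsg.pCore p G) t, ∀ y ∈ Y, ⁅k, y⁆ ∈ Rp p t) ∧
      ∀ y ∈ Y, y ∉ Cfsg.pCore p G → ∃ x ∈ (nbr ι.range A (Z.map ι)).comap ι,
        ⁅y, ⁅y, x⁆⁆ ∉ centralizer ((⊤ : Subgroup G) : Set G) := by
  classical
  set M := ι.range
  set Z' := Z.map ι
  obtain ⟨-, hc2⟩ := conj_L hs hι hN hP hd h2'
  obtain ⟨hc3, -⟩ := conj_P hs hι hN hP hd h2'
  have hPC : ⁅nbr M A Z', nbr M A Z'⁆ ≤ Z' ⊓ centralizer (M : Set X) :=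
    (commutator_mono le_rfl (hs.nbr_le hN)).trans (hs.comm_nbr_Q hN hP)
  have hcov := hs.first_cover hN hP.ha (dist_left hP.hc'.1 (dist_of_A (A.inv_mem hP.ha)))
    (fun hh => hP.bad' (bad_iff.2 (by rwa [inv_inv])))
  set Y' := cj (a * (b' * a⁻¹)) Z' with hY'
  have hY'r : Y' ≤ M := (le_sup_left.trans hcov.le).trans (map_le_range _ _)
  have hmem : ∀ {y : G}, y ∈ Y'.comap ι → a⁻¹ * ι y * a ∈ cj (b' * a⁻¹) Z' := fun {y} hy => by
    have hy' : ι y ∈ Y' := hy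
    rw [hY', ← cj_cj] at hy'
    exact mem_cj.1 hy'
  refine ⟨Y'.comap ι, ?_, ?_, fun x hx y hy => hι ?_, fun k hk y hy => ?_, fun y hy hyQ => ?_⟩
  · rw [← comap_map_eq_self_of_injective hι (S : Subgroup G)]
    exact comap_mono (hcov ▸ le_sup_left)
  · apply map_injective hι
    rw [Subgroup.map_sup, map_comap_eq_self hY'r, hcov]
  · obtain ⟨x', hx', ex⟩ := (show ι x ∈ Y' from hx)
    obtain ⟨y', hy', ey⟩ := (show ι y ∈ Y' from hy)
    rw [map_mul, map_mul, ← ex, ← ey, ← map_mul, ← map_mul, hs.zcomm x' hx' y' hy']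
  · -- commutators with the fixed part
    set v := a⁻¹ * ι y * a with hv
    set e := a⁻¹ * ι k * a with he
    have hz : a * (b'⁻¹ * v * b') * a⁻¹ ∈ Z' := by
      have := mem_cj.1 (hmem hy)
      rwa [mul_inv_rev, inv_inv, show a * b'⁻¹ * v * (b' * a⁻¹) = a * (b'⁻¹ * v * b') * a⁻¹ by group] at this
    have he2 : b'⁻¹ * e * b' ∈ (Cfsg.pCore p G).map ι :=
      (mem_normalizer_iff''.1 (hs.hQn hP.hc'.1) e).1 (key hs hι hN hP hd h2' hk)
    have hsS : a * (b'⁻¹ * e * b') * a⁻¹ ∈ (S : Subgroup G).map ι :=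
      (mem_normalizer_iff.1 (hs.hA hP.ha) _).1 (hs.hQS he2)
    have hl : ⁅a * (b'⁻¹ * e * b') * a⁻¹, a * (b'⁻¹ * v * b') * a⁻¹⁆ ∈ ⁅Z', (S : Subgroup G).map ι⁆ := by
      rw [← commutatorElement_inv]; exact inv_mem (commutator_mem_commutator hz hsS)
    set l := ⁅a * (b'⁻¹ * e * b') * a⁻¹, a * (b'⁻¹ * v * b') * a⁻¹⁆ with hldef
    have hlP : a⁻¹ * l * a ∈ ⁅nbr M A Z', nbr M A Z'⁆ :=
      hc2 ▸ mem_cj.2 (by simpa [mul_assoc] using hl)
    have e1 : ι ⁅k, y⁆ = l := by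
      have h1 : ⁅e, v⁆ = b' * (a⁻¹ * l * a) * b'⁻¹ := by
        rw [hldef]; simp only [commutatorElement_def]; group
      rw [mem_centralizer_iff.1 (hPC hlP).2 b' hP.hc'.1, mul_inv_cancel_right] at h1
      calc ι ⁅k, y⁆ = a * ⁅e, v⁆ * a⁻¹ := by
            rw [map_commutatorElement, he, hv]; simp only [commutatorElement_def]; group
        _ = l := by rw [h1]; group
    rw [← e1, ← map_commutator, mem_map_iff_mem hι] at hl
    exact hd.comm_ZS_le_R hl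
  · -- no quadratic action
    set v := a⁻¹ * ι y * a with hv
    have hvV := hmem hy
    rw [← hv] at hvV
    have hvU : v ∈ nbr M A Z' := le_nbr (dist_left hP.hc'.1 (dist_of_A (A.inv_mem hP.ha))) hvV
    have hvn : v ∉ nbr1 M A Z' a⁻¹ := fun hh => hyQ ((mem_map_iff_mem hι).1 (by
      have := mem_cj.1 (hs.nbr1_mem_cj hN (A.inv_mem hP.ha) hh)
      rwa [inv_inv, hv, show a * (a⁻¹ * ι y * a) * a⁻¹ = ι y by group] at this))
    obtain ⟨w, hw, hvw⟩ : ∃ w ∈ cj a⁻¹ Z', ⁅v, w⁆ ≠ 1 := by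
      by_contra hh
      push Not at hh
      exact hvn ⟨hvU, mem_centralizer_iff.2 fun w hw => (commutatorElement_eq_one_iff_commute.1 (hh w hw)).eq.symm⟩
    have hwU1 : w ∈ nbr1 M A Z' a⁻¹ :=
      hs.edge_le_nbr1 hN (A.inv_mem hP.ha) (le_edge (A.inv_mem hP.ha) hw)
    obtain ⟨v0, hv0⟩ := range_le hs hι hN hP le_rfl hvU
    obtain ⟨w0, hw0⟩ := range_le hs hι hN hP inf_le_left hwU1
    set U := (nbr M A Z').comap ι
    have hv0U : v0 ∈ U := show ι v0 ∈ _ from hv0 ▸ hvU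
    have hw0U : w0 ∈ U := show ι w0 ∈ _ from hw0 ▸ hwU1.1
    have hθv : θ'' v0 1 ≠ 0 := fun h0 => hvn (hv0 ▸ (hn''.line v0 hv0U).2 h0)
    have hθw : θ'' w0 1 = 0 := (hn''.line w0 hw0U).1 (show ι w0 ∈ _ from hw0 ▸ hwU1)
    obtain ⟨s, hsS, hsρ⟩ := upper_onto hd.setup hn'' hk''.ge (-(θ'' w0 0) / θ'' v0 1)
    have hcov2 := hs.first_cover hN (A.inv_mem hP.ha) (dist_left hP.hc.1 (dist_of_A hP.ha))
      (fun hh => hP.bad (bad_iff.2 hh))
    have hn : cj (a⁻¹ * (b * a)) Z' ≤ normalizer (((Cfsg.pCore p G).map ι : Subgroup X) : Set X) :=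
      (le_sup_left.trans hcov2.le).trans (hs.hSM.trans hs.hQn)
    have hs' : ι s ∈ cj (a⁻¹ * (b * a)) Z' ⊔ (Cfsg.pCore p G).map ι := hcov2.ge (mem_map_of_mem ι hsS)
    rw [← SetLike.mem_coe, coe_mul_of_left_le_normalizer_right _ _ hn] at hs'
    obtain ⟨s1', hs1, r', hr', hsr⟩ := hs'
    obtain ⟨r, hr, rfl⟩ := hr'
    obtain ⟨s1, hs1S, rfl⟩ := (le_sup_left.trans hcov2.le) hs1
    have hρ1 : ρ'' s1 = xu (-(θ'' w0 0) / θ'' v0 1) := by
      have h1 : s1 * r = s := hι (by rw [map_mul]; exact hsr)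
      rw [← hsρ, ← h1, map_mul, (MonoidHom.mem_ker.1 (hk''.ge hr)), mul_one]
    have hd' : ⁅v0, s1⁆⁻¹ * w0 ∈ (nbr2 M A Z' a⁻¹ b').comap ι := by
      have hm : s1 * v0⁻¹ * s1⁻¹ ∈ U := hn''.normA.conj_mem _ (U.inv_mem hv0U) s1
      have e : ⁅v0, s1⁆ = v0 * (s1 * v0⁻¹ * s1⁻¹) := by rw [commutatorElement_def]; group
      have hθ : θ'' ⁅v0, s1⁆ = θ'' w0 := by
        rw [e, hn''.map_mul _ hv0U _ hm, hn''.equiv s1 _ (U.inv_mem hv0U), hn''.map_inv' hv0U, hρ1, xu_val]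
        ext i; fin_cases i
        · simp [Matrix.mulVec, dotProduct, Fin.sum_univ_two]
          field_simp
        · simp [Matrix.mulVec, dotProduct, Fin.sum_univ_two, hθw]
      have hmU : ⁅v0, s1⁆ ∈ U := e ▸ U.mul_mem hv0U hm
      rw [← hn''.map_eq_zero _ (U.mul_mem (U.inv_mem hmU) hw0U), hn''.map_mul _ (U.inv_mem hmU) _ hw0U,
        hn''.map_inv' hmU, hθ, neg_add_cancel]
    have hcomm : v * (⁅v, ι s1⁆⁻¹ * w) = (⁅v, ι s1⁆⁻¹ * w) * v := by
      have h1 : ι (⁅v0, s1⁆⁻¹ * w0) ∈ centralizer ((cj (b' * a⁻¹) Z' : Subgroup X) : Set X) :=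
        (show ι (⁅v0, s1⁆⁻¹ * w0) ∈ nbr2 M A Z' a⁻¹ b' from hd').2
      rw [map_mul, map_inv, map_commutatorElement, hv0, hw0] at h1
      exact mem_centralizer_iff.1 h1 v hvV
    have hzv : ⁅v, ⁅v, ι s1⁆⁆ = ⁅v, w⁆ := by
      set d := ⁅v, ι s1⁆⁻¹ * w with hdd
      rw [show w = ⁅v, ι s1⁆ * d by rw [hdd, mul_inv_cancel_left]]
      generalize ⁅v, ι s1⁆ = e
      calc ⁅v, e⁆ = v * e * (d * d⁻¹) * v⁻¹ * e⁻¹ := by rw [commutatorElement_def]; group
        _ = v * e * d * (d⁻¹ * v⁻¹) * e⁻¹ := by group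
        _ = v * e * d * (v⁻¹ * d⁻¹) * e⁻¹ := by rw [(show Commute v d from hcomm).inv_inv.eq]
        _ = ⁅v, e * d⁆ := by simp only [commutatorElement_def]; group
    have hxU : a * ι s1 * a⁻¹ ∈ nbr M A Z' := le_nbr (dist_left hP.hc.1 (dist_of_A hP.ha)) (by
      have h1 := mem_map_of_mem (MulAut.conj a).toMonoidHom hs1
      change a * ι s1 * a⁻¹ ∈ cj a (cj (a⁻¹ * (b * a)) Z') at h1
      rwa [cj_cj, mul_inv_cancel_left] at h1)
    obtain ⟨x, hx⟩ := range_le hs hι hN hP le_rfl hxU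
    have e2 : ι ⁅y, ⁅y, x⁆⁆ = a * ⁅v, w⁆ * a⁻¹ := by
      rw [← hzv, map_commutatorElement, map_commutatorElement, hx, hv]
      simp only [commutatorElement_def]; group
    refine ⟨x, show ι x ∈ _ from hx ▸ hxU, (comm_ZS_ncentral hs hι hN hP hd h2' ?_ ?_).2⟩
    · rw [e2, ← hc3]
      exact mem_cj.2 (by simpa [mul_assoc] using commutator_mem_commutator hvU hwU1.1)
    · rw [e2]
      intro h1
      exact hvw (by simpa [mul_eq_one_iff_eq_inv, mul_assoc] using congrArg (fun z => a⁻¹ * z * a) h1)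

end Cfsg.Agent.H35.PushExceptional
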