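import Cfsg.Agent.H22.PResidual
import Cfsg.Agent.H1.SylowTwoDim
import Cfsg.Agent.H1.Generation
import Mathlib

/-!
The residual `O^p` of `SL₂` in characteristic `p` is the derived group, and `O^p` is generated by elements
of order prime to `p`.
-/

set_option autoImplicit false
set_option linter.style.haveILetI false

open scoped commutatorElement

namespace Cfsg.Agent.H35.PushExceptional

open Cfsg.Agent Subgroup

variable {G : Type*} [Group G] {p : ℕ}

/-- A subgroup containing all elements of order prime to `p` contains the residual. -/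
theorem pResidual_le {H : Subgroup G} (h : ∀ x : G, (orderOf x).Coprime p → x ∈ H) :
    Cfsg.pResidual p G ≤ H :=
  (Subgroup.closure_le _).2 fun x hx => h x hx

/-- Every transvection of `SL₂` in characteristic `p` has order dividing `p`. -/
theorem transvection_pow {F : Type} [Field F] [CharP F p] {i j : Fin 2} (hij : i ≠ j) (c : F) :
    (Matrix.SpecialLinearGroup.transvection hij c : Matrix.SpecialLinearGroup (Fin 2) F) ^ p = 1 := by
  let φ : Multiplicative F →* Matrix.SpecialLinearGroup (Fin 2) F :=
    { toFun := fun x => Matrix.SpecialLinearGroup.transvection hij x.toAdd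
      map_one' := Matrix.SpecialLinearGroup.transvection_coeff_zero _
      map_mul' := fun _ _ => Matrix.SpecialLinearGroup.transvection_add _ _ _ }
  have h : (Multiplicative.ofAdd c) ^ p = 1 := by
    rw [← ofAdd_nsmul, nsmul_eq_mul, CharP.cast_eq_zero, zero_mul, ofAdd_zero]
  have := congrArg φ h
  rwa [map_pow, map_one] at this

/-- The residual of `SL₂` is its derived group. -/
theorem pResidual_sl2 [Fact p.Prime] {F : Type} [Field F] [Fintype F] [CharP F p] :
    Cfsg.pResidual p (Matrix.SpecialLinearGroup (Fin 2) F) =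
      commutator (Matrix.SpecialLinearGroup (Fin 2) F) := by
  classical
  refine le_antisymm ?_ ?_
  · refine H22.pResidual_le_of_isPGroup_quotient _ fun x => ⟨1, ?_⟩
    obtain ⟨g, rfl⟩ := QuotientGroup.mk_surjective x
    let f : Matrix.SpecialLinearGroup (Fin 2) F →* Abelianization (Matrix.SpecialLinearGroup (Fin 2) F) :=
      (powMonoidHom p).comp Abelianization.of
    have hf : f.ker = ⊤ := H1.SL_eq_top_of_transvection_mem _ fun i j hij c => by
      show (Abelianization.of (Matrix.SpecialLinearGroup.transvection hij c)) ^ p = 1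
      rw [← map_pow, transvection_pow, map_one]
    have hg : f g = 1 := MonoidHom.mem_ker.1 (hf ▸ mem_top g)
    rw [pow_one]
    exact hg
  · rw [commutator_def, commutator_le]
    intro a _ b _
    set N := Cfsg.pResidual p (Matrix.SpecialLinearGroup (Fin 2) F)
    have key : ∀ g : Matrix.SpecialLinearGroup (Fin 2) F, ∃ c : Multiplicative F,
        (g : Matrix.SpecialLinearGroup (Fin 2) F ⧸ N) = (H1.upperUniHom F c : _ ⧸ N) := by
      intro g
      have hg : g ∈ N ⊔ (H1.sylowSL (F := F) p : Subgroup (Matrix.SpecialLinearGroup (Fin 2) F)) :=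
        (H22.pResidual_sup_sylow (p := p) (H1.sylowSL (F := F) p)) ▸ mem_top g
      obtain ⟨r, hr, u, hu, rfl⟩ := mem_sup_of_normal_left.1 hg
      rw [H1.coe_sylowSL] at hu
      obtain ⟨c, rfl⟩ := hu
      refine ⟨c, ?_⟩
      rw [QuotientGroup.mk_mul, (QuotientGroup.eq_one_iff r).2 hr, one_mul]
    obtain ⟨x, hx⟩ := key a
    obtain ⟨y, hy⟩ := key b
    rw [← QuotientGroup.eq_one_iff]
    show QuotientGroup.mk' N ⁅a, b⁆ = 1
    rw [map_commutatorElement, commutatorElement_eq_one_iff_commute]
    show Commute (a : _ ⧸ N) (b : _ ⧸ N)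
    rw [hx, hy]
    exact ((Commute.all x y).map (H1.upperUniHom F)).map (QuotientGroup.mk' N)

end Cfsg.Agent.H35.PushExceptional
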